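import Mathlib

/-!
# The configuration: a `p`-cycle and an element acting on it by a multiplier
-/

set_option autoImplicit false
set_option linter.unusedSectionVars false

namespace CfsgLib.PrimeDegreeTI

open Finset MulAction

/-- `u` is a `p`-cycle on `α`, `s` fixes `a₀` and acts on `⟨u⟩` by the multiplier `m` of order `e`. -/
structure Cfg {G : Type*} [Group G] {α : Type*} [MulAction G α] (p : ℕ) [Fact p.Prime] (u s : G) (a₀ : α)
    (m : ZMod p) (e t : ℕ) : Prop where
  ord_u : orderOf u = p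
  bij : Function.Bijective fun c : ZMod p => u ^ c.val • a₀
  fix : s • a₀ = a₀
  conj_u : s * u * s⁻¹ = u ^ m.val
  ord_s : orderOf s = e
  ord_m : orderOf m = e
  card_eq : e * t + 1 = p
  three_le : 3 ≤ e
  two_le : 2 ≤ t
  mem_normalizer : ∀ g ∈ Subgroup.normalizer (Subgroup.zpowers u : Set G), ∃ i j : ℕ, g = s ^ i * u ^ j

namespace Cfg

variable {G : Type*} [Group G] {α : Type*} [MulAction G α] {p : ℕ} [Fact p.Prime] {u s : G} {a₀ : α}
  {m : ZMod p} {e t : ℕ}

/-- The points, indexed by the cycle. -/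
def pt (_ : Cfg p u s a₀ m e t) (c : ZMod p) : α := u ^ c.val • a₀

theorem upow (h : Cfg p u s a₀ m e t) (n : ℕ) : u ^ n = u ^ (n : ZMod p).val := by
  rw [ZMod.val_natCast, ← h.ord_u, pow_mod_orderOf]

theorem upow_add (h : Cfg p u s a₀ m e t) (c d : ZMod p) : u ^ (c + d).val = u ^ c.val * u ^ d.val := by
  rw [← pow_add, h.upow (c.val + d.val), Nat.cast_add, ZMod.natCast_zmod_val, ZMod.natCast_zmod_val]

theorem s_upow (h : Cfg p u s a₀ m e t) (c : ZMod p) : s * u ^ c.val = u ^ (m * c).val * s := by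
  have : (s * u * s⁻¹) ^ c.val = u ^ (m * c).val := by
    rw [h.conj_u, ← pow_mul, h.upow (m.val * c.val), Nat.cast_mul, ZMod.natCast_zmod_val, ZMod.natCast_zmod_val]
  rw [← this, conj_pow]
  group

theorem u_smul_pt (h : Cfg p u s a₀ m e t) (c : ZMod p) : u • h.pt c = h.pt (c + 1) := by
  rw [pt, pt, smul_smul, ← pow_succ', h.upow (c.val + 1), Nat.cast_succ, ZMod.natCast_zmod_val]

theorem upow_smul_pt (h : Cfg p u s a₀ m e t) (d c : ZMod p) : u ^ d.val • h.pt c = h.pt (d + c) := by
  rw [pt, pt, smul_smul, ← h.upow_add]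

theorem s_smul_pt (h : Cfg p u s a₀ m e t) (c : ZMod p) : s • h.pt c = h.pt (m * c) := by
  rw [pt, pt, smul_smul, h.s_upow, mul_smul, h.fix]

theorem spow_smul_pt (h : Cfg p u s a₀ m e t) (j : ℕ) (c : ZMod p) : s ^ j • h.pt c = h.pt (m ^ j * c) := by
  induction j with
  | zero => simp
  | succ j ih => rw [pow_succ', mul_smul, ih, h.s_smul_pt, pow_succ', mul_assoc]

theorem pt_injective (h : Cfg p u s a₀ m e t) : Function.Injective h.pt := h.bij.1

theorem pt_surjective (h : Cfg p u s a₀ m e t) : Function.Surjective h.pt := h.bij.2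

theorem e_pos (h : Cfg p u s a₀ m e t) : 0 < e := by have := h.three_le; omega

theorem e_lt (h : Cfg p u s a₀ m e t) : 2 * e + 1 ≤ p := by
  have := h.card_eq
  have := Nat.mul_le_mul_left e h.two_le
  omega

theorem t_lt (h : Cfg p u s a₀ m e t) : 3 * t + 1 ≤ p := by
  have := h.card_eq
  have := Nat.mul_le_mul_right t h.three_le
  omega

theorem m_pow_e (h : Cfg p u s a₀ m e t) : m ^ e = 1 := h.ord_m ▸ pow_orderOf_eq_one m

theorem m_ne_zero (h : Cfg p u s a₀ m e t) : m ≠ 0 := fun h0 => by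
  have := h.m_pow_e
  rw [h0, zero_pow h.e_pos.ne'] at this
  exact zero_ne_one this

theorem m_pow_eq_one (h : Cfg p u s a₀ m e t) {j : ℕ} : m ^ j = 1 ↔ e ∣ j := by
  rw [← h.ord_m, orderOf_dvd_iff_pow_eq_one]

theorem spow_e (h : Cfg p u s a₀ m e t) : s ^ e = 1 := h.ord_s ▸ pow_orderOf_eq_one s

theorem eq_pt_zero_of_spow (h : Cfg p u s a₀ m e t) {j : ℕ} (hj : ¬ e ∣ j) {c : ZMod p}
    (hc : s ^ j • h.pt c = h.pt c) : c = 0 := by
  rw [h.spow_smul_pt] at hc
  have h1 : (m ^ j - 1) * c = 0 := by rw [sub_mul, one_mul, h.pt_injective hc, sub_self]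
  exact (mul_eq_zero.1 h1).resolve_left fun h2 => hj (h.m_pow_eq_one.1 (sub_eq_zero.1 h2))

end Cfg

/-- A sum over a finite set made of free orbits of an element of prime order vanishes if the sum over
each orbit does. -/
theorem sum_free_orbits {G : Type*} [Group G] {X : Type*} [MulAction G X] {M : Type*} [AddCommMonoid M]
    {p : ℕ} (hp : p.Prime) {u : G} (hu : orderOf u = p) (S : Finset X) (hS : ∀ x ∈ S, u • x ∈ S)
    (hfree : ∀ x ∈ S, u • x ≠ x) (φ : X → M) (hφ : ∀ x ∈ S, ∑ c ∈ range p, φ (u ^ c • x) = 0) :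
    ∑ x ∈ S, φ x = 0 := by
  classical
  induction S using Finset.strongInduction with
  | _ S ih =>
  rcases S.eq_empty_or_nonempty with rfl | ⟨x, hx⟩
  · simp
  have hpow : ∀ (c : ℕ) (y : X), y ∈ S → u ^ c • y ∈ S := fun c y hy => by
    induction c with
    | zero => simpa using hy
    | succ c ihc => rw [pow_succ', mul_smul]; exact hS _ ihc
  have hinj : Set.InjOn (fun c => u ^ c • x) (range p : Set ℕ) := by
    suffices key : ∀ a b : ℕ, a ≤ b → b < p → u ^ a • x = u ^ b • x → a = b by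
      intro a ha b hb hab
      simp only [Finset.coe_range, Set.mem_Iio] at ha hb
      rcases le_total a b with h | h
      · exact key a b h hb hab
      · exact (key b a h ha hab.symm).symm
    intro a b hle hb hab
    by_contra hne
    obtain ⟨d, rfl⟩ := Nat.exists_eq_add_of_le hle
    have hd : u ^ d ∈ stabilizer G x := by
      rw [mem_stabilizer_iff]
      have : u ^ a • u ^ d • x = u ^ a • x := by rw [smul_smul, ← pow_add]; exact hab.symm
      exact (MulAction.injective (u ^ a)) this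
    have hcop : d.Coprime (orderOf u) := by
      rw [hu]
      exact Nat.Coprime.symm ((Nat.Prime.coprime_iff_not_dvd hp).2 fun hd => absurd (Nat.le_of_dvd (by omega) hd) (by omega))
    obtain ⟨i, hi⟩ := exists_pow_eq_self_of_coprime hcop
    exact hfree x hx (mem_stabilizer_iff.1 (hi ▸ pow_mem hd i))
  set O := (range p).image fun c => u ^ c • x with hO
  have hOS : O ⊆ S := by
    intro y hy
    simp only [hO, Finset.mem_image] at hy
    obtain ⟨c, -, rfl⟩ := hy
    exact hpow c x hx
  have hOu : ∀ y, u • y ∈ O → y ∈ O := by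
    intro y hy
    simp only [hO, Finset.mem_image, Finset.mem_range] at hy ⊢
    obtain ⟨c, hc, hcy⟩ := hy
    refine ⟨(c + p - 1) % p, Nat.mod_lt _ hp.pos, ?_⟩
    have := hp.one_lt
    rw [← hu, pow_mod_orderOf, hu]
    refine MulAction.injective u ?_
    show u • u ^ (c + p - 1) • x = u • y
    rw [← hcy, smul_smul, ← pow_succ', show c + p - 1 + 1 = c + p by omega, pow_add,
      show u ^ p = 1 from hu ▸ pow_orderOf_eq_one u, mul_one]
  rw [← Finset.sum_sdiff hOS, ih (S \ O) ?_ ?_ ?_ ?_, zero_add, hO, Finset.sum_image hinj]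
  · exact hφ x hx
  · refine Finset.sdiff_ssubset hOS ⟨x, ?_⟩
    simp only [hO, Finset.mem_image, Finset.mem_range]
    exact ⟨0, hp.pos, by simp⟩
  · intro y hy
    rw [Finset.mem_sdiff] at hy ⊢
    exact ⟨hS y hy.1, fun h => hy.2 (hOu y h)⟩
  · exact fun y hy => hfree y (Finset.mem_sdiff.1 hy).1
  · exact fun y hy => hφ y (Finset.mem_sdiff.1 hy).1

end CfsgLib.PrimeDegreeTI
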