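import Mathlib

/-!
# Sums over powers of a generator
-/

set_option autoImplicit false

namespace CfsgLib.PrimeDegreeTI

open Finset

/-- A sum over a finite cyclic subgroup, written with exponents. -/
theorem sum_zpowers {G : Type*} [Group G] [Finite G] {M : Type*} [AddCommMonoid M] (s : G) [Fintype (Subgroup.zpowers s)]
    (F : G → M) : ∑ h : Subgroup.zpowers s, F h = ∑ j ∈ range (orderOf s), F (s ^ j) := by
  rw [← Fin.sum_univ_eq_sum_range (fun j => F (s ^ j)),
    ← Equiv.sum_comp (finEquivZPowers (isOfFinOrder_of_finite s)) (fun h : Subgroup.zpowers s => F (h : G))]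
  exact Finset.sum_congr rfl fun i _ => by simp [finEquivZPowers_apply]

/-- Orthogonality of the powers of a primitive root. -/
theorem sum_zpow_root {K : Type*} [Field K] {ω : K} {e : ℕ} (hω : IsPrimitiveRoot ω e) (i : ℤ) :
    ∑ j ∈ range e, (ω ^ i) ^ j = if (e : ℤ) ∣ i then (e : K) else 0 := by
  split_ifs with h <;> rw [← hω.zpow_eq_one_iff_dvd] at h
  · simp [h]
  · rw [geom_sum_eq h, ← zpow_natCast, ← zpow_mul, mul_comm, zpow_mul, zpow_natCast, hω.pow_eq_one,
      one_zpow, sub_self, zero_div]

end CfsgLib.PrimeDegreeTI
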