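import Cfsg.Agent.Lib.Chars.Char
import Cfsg.Agent.Lib.PrimeDegreeTI.Roots

/-!
# A character of degree `p` on a complement in the normaliser of a subgroup of order `p`

If `χ` has degree `p` and vanishes on `⟨u⟩ \ 1` then the fixed space of `u` is a line, and the
complement `⟨s⟩` acts on it by a linear character, which is the value of `χ` on `⟨s⟩ \ 1`. In a perfect
group this linear character is trivial when `(p - 1) / |s|` is even, by looking at determinants.
-/

set_option autoImplicit false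
set_option linter.style.haveILetI false
set_option linter.unusedSectionVars false

namespace CfsgLib.PrimeDegreeTI

open Cfsg Chars Finset

universe u

variable {G : Type u} [Group G] [Finite G]

theorem geom_sum_root {e : ℕ} (he : 0 < e) {x : ℂ} (hx : x ^ e = 1) [Decidable (x = 1)] :
    ∑ j ∈ range e, x ^ j = if x = 1 then (e : ℂ) else 0 := by
  split_ifs with h
  · simp [h]
  · rw [geom_sum_eq h, hx, sub_self, zero_div]

theorem exists_linear_value {p : ℕ} (hp : p.Prime) (χ : IrrCharacter G) (hdeg : (χ : G → ℂ) 1 = p)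
    {u s : G} (hu : orderOf u = p) (hvan : ∀ c : ℕ, ¬ p ∣ c → (χ : G → ℂ) (u ^ c) = 0)
    {e : ℕ} (hse : orderOf s = e) (hnorm : s ∈ Subgroup.normalizer (Subgroup.zpowers u : Set G))
    (hconj : ∀ j c : ℕ, ¬ e ∣ j → (χ : G → ℂ) (s ^ j * u ^ c) = (χ : G → ℂ) (s ^ j)) :
    ∃ ν : ℂ, ν ^ e = 1 ∧ ∀ j : ℕ, ¬ e ∣ j → (χ : G → ℂ) (s ^ j) = ν ^ j := by
  classical
  obtain ⟨n, ρ, -, hρ⟩ := χ.2
  have hval : ∀ g, LinearMap.trace ℂ _ (ρ g) = (χ : G → ℂ) g := fun g => by rw [← hρ]; rfl
  haveI : Fintype (Subgroup.zpowers u) := Fintype.ofFinite _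
  have hp0 : (p : ℂ) ≠ 0 := Nat.cast_ne_zero.2 hp.ne_zero
  let π : Module.End ℂ (Fin n → ℂ) := (p : ℂ)⁻¹ • ∑ h : Subgroup.zpowers u, ρ (h : G)
  have hπh : ∀ h : Subgroup.zpowers u, ρ (h : G) * π = π := fun h => by
    simp only [π, mul_smul_comm, Finset.mul_sum]
    congr 1
    exact Fintype.sum_equiv (Equiv.mulLeft h) _ _ fun a => by
      rw [← map_mul]; rfl
  have hsum1 : ∀ a : G, LinearMap.trace ℂ _ (ρ a * π) =
      (p : ℂ)⁻¹ * ∑ c ∈ range p, (χ : G → ℂ) (a * u ^ c) := by
    intro a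
    simp only [π, mul_smul_comm, map_smul, smul_eq_mul]
    rw [Finset.mul_sum univ, map_sum, sum_zpowers u (fun h : G => LinearMap.trace ℂ _ (ρ a * ρ h)), hu]
    congr 1
    exact Finset.sum_congr rfl fun c _ => by rw [← map_mul, hval]
  have hπtr : LinearMap.trace ℂ _ π = 1 := by
    have := hsum1 1
    rw [map_one, one_mul] at this
    rw [this, Finset.sum_eq_single 0 (fun c hc h0 => by
      rw [one_mul, hvan c fun hd => absurd (Nat.le_of_dvd (Nat.pos_of_ne_zero h0) hd)
        (by simp only [Finset.mem_range] at hc; omega)]) (fun h => absurd (Finset.mem_range.2 hp.pos) h),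
      pow_zero, one_mul, hdeg, inv_mul_cancel₀ hp0]
  have hidem : π * π = π := by
    show ((p : ℂ)⁻¹ • ∑ h : Subgroup.zpowers u, ρ (h : G)) * π = π
    rw [smul_mul_assoc, Finset.sum_mul, Finset.sum_congr rfl (fun h _ => hπh h), Finset.sum_const,
      Finset.card_univ, ← Nat.card_eq_fintype_card, Nat.card_zpowers, hu, ← Nat.cast_smul_eq_nsmul ℂ,
      smul_smul, inv_mul_cancel₀ hp0, one_smul]
  have hproj : LinearMap.IsProj (LinearMap.range π) π :=
    ⟨fun x => ⟨x, rfl⟩, by
      rintro x ⟨y, rfl⟩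
      exact LinearMap.congr_fun hidem y⟩
  have hrk : Module.finrank ℂ (LinearMap.range π) = 1 := by
    have := hproj.trace
    rw [hπtr] at this
    exact_mod_cast this.symm
  obtain ⟨⟨v, hv⟩, hv0, hvspan⟩ := finrank_eq_one_iff'.1 hrk
  have hv0' : v ≠ 0 := fun h => hv0 (Subtype.ext h)
  have hcomm : ρ s * π = π * ρ s := by
    simp only [π, mul_smul_comm, smul_mul_assoc, Finset.mul_sum, Finset.sum_mul]
    congr 1
    have hmem : ∀ h : Subgroup.zpowers u, s * (h : G) * s⁻¹ ∈ Subgroup.zpowers u := fun h =>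
      (Subgroup.mem_normalizer_iff.1 hnorm _).1 h.2
    have hmem' : ∀ h : Subgroup.zpowers u, s⁻¹ * (h : G) * s ∈ Subgroup.zpowers u := fun h => by
      have := (Subgroup.mem_normalizer_iff.1 hnorm (s⁻¹ * h * s)).2 (by
        rw [show s * (s⁻¹ * h * s) * s⁻¹ = (h : G) by group]; exact h.2)
      exact this
    exact Fintype.sum_equiv
      { toFun := fun h => ⟨s * (h : G) * s⁻¹, hmem h⟩
        invFun := fun h => ⟨s⁻¹ * (h : G) * s, hmem' h⟩
        left_inv := fun h => Subtype.ext (by simp [mul_assoc])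
        right_inv := fun h => Subtype.ext (by simp [mul_assoc]) } _ _ fun h => by
        rw [← map_mul, ← map_mul]
        simp
  clear_value π
  obtain ⟨ν, hν⟩ : ∃ ν : ℂ, ρ s v = ν • v := by
    obtain ⟨y, hy⟩ := hv
    have hm : ρ s v ∈ LinearMap.range π := ⟨ρ s y, by
      rw [← hy]; exact (LinearMap.congr_fun hcomm y).symm⟩
    obtain ⟨c, hc⟩ := hvspan ⟨_, hm⟩
    exact ⟨c, (congrArg Subtype.val hc).symm⟩
  have hpow : ∀ j : ℕ, ρ (s ^ j) v = ν ^ j • v := by
    intro j
    induction j with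
    | zero => simp
    | succ j ih => rw [pow_succ', map_mul, Module.End.mul_apply, ih, map_smul, hν, smul_smul, ← pow_succ]
  refine ⟨ν, ?_, fun j hj => ?_⟩
  · have h := hpow e
    rw [← hse, pow_orderOf_eq_one, map_one, Module.End.one_apply, hse] at h
    exact smul_left_injective ℂ hv0' (show ν ^ e • v = (1 : ℂ) • v by rw [one_smul]; exact h.symm)
  · have h1 : ρ (s ^ j) * π = ν ^ j • π := by
      refine LinearMap.ext fun y => ?_
      obtain ⟨c, hc⟩ := hvspan ⟨π y, ⟨y, rfl⟩⟩
      have hc' : c • v = π y := congrArg Subtype.val hc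
      rw [Module.End.mul_apply, LinearMap.smul_apply, ← hc', map_smul, hpow, smul_comm]
    have h2 := hsum1 (s ^ j)
    rw [h1, map_smul, hπtr, smul_eq_mul, mul_one, Finset.sum_congr rfl (fun c _ => hconj j c hj),
      Finset.sum_const, Finset.card_range, nsmul_eq_mul, ← mul_assoc, inv_mul_cancel₀ hp0, one_mul] at h2
    exact h2.symm

/-- In a perfect group the linear character is trivial. -/
theorem linear_value_eq_one (hperf : commutator G = ⊤) (χ : IrrCharacter G) {p : ℕ}
    (hdeg : (χ : G → ℂ) 1 = p) {s : G} {e t : ℕ} (hse : orderOf s = e) (het : e * t + 1 = p)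
    (ht : Even t) {ν : ℂ} (hν : ν ^ e = 1) (hval : ∀ j : ℕ, ¬ e ∣ j → (χ : G → ℂ) (s ^ j) = ν ^ j) :
    ν = 1 := by
  classical
  have he : 0 < e := hse ▸ orderOf_pos s
  obtain ⟨n, ρ, -, hρ⟩ := χ.2
  obtain ⟨b, μ, hμ, -, hb, -, -, -⟩ := exists_eigenbasis_rep ρ s
  rw [hse] at hμ
  have hbpow : ∀ (j : ℕ) i, ρ (s ^ j) (b i) = μ i ^ j • b i := by
    intro j i
    induction j with
    | zero => simp
    | succ j ih => rw [pow_succ', map_mul, Module.End.mul_apply, ih, map_smul, hb, smul_smul, ← pow_succ]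
  have hsumμ : ∀ j : ℕ, ∑ i, μ i ^ j = (χ : G → ℂ) (s ^ j) := fun j => by
    rw [← hρ]
    exact (trace_eq_sum_of_eigenbasis _ b _ (hbpow j)).symm
  -- the determinant
  have hdet : ∏ i, μ i = 1 := by
    have h1 : LinearMap.det (ρ s) = ∏ i, μ i := by
      rw [← LinearMap.det_toMatrix b, show LinearMap.toMatrix b b (ρ s) = Matrix.diagonal μ from ?_,
        Matrix.det_diagonal]
      ext i k
      rw [LinearMap.toMatrix_apply, hb, map_smul, Finsupp.smul_apply, b.repr_self, Finsupp.single_apply,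
        Matrix.diagonal_apply]
      by_cases h : i = k
      · subst h; simp
      · simp [h, Ne.symm h]
    let δ : G →* ℂˣ := ((LinearMap.det).comp ρ).toHomUnits
    have hδ : s ∈ δ.ker := Abelianization.commutator_subset_ker δ (hperf ▸ Subgroup.mem_top s)
    rw [MonoidHom.mem_ker, Units.ext_iff] at hδ
    rw [← h1]
    exact hδ
  -- multiplicities
  set R := Polynomial.nthRootsFinset e (1 : ℂ) with hR
  have hRmem : ∀ a : ℂ, a ∈ R ↔ a ^ e = 1 := fun a => Polynomial.mem_nthRootsFinset he 1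
  have hR0 : ∀ a ∈ R, a ≠ 0 := fun a ha h => by
    rw [hRmem, h, zero_pow he.ne'] at ha
    exact zero_ne_one ha
  have hmult : ∀ a ∈ R, (univ.filter fun i => μ i = a).card = t + if a = ν then 1 else 0 := by
    intro a ha
    have hae := (hRmem a).1 ha
    have hx : ∀ i, (μ i * a⁻¹) ^ e = 1 := fun i => by rw [mul_pow, hμ, inv_pow, hae, inv_one, mul_one]
    have h1 : ∑ j ∈ range e, ∑ i, (μ i * a⁻¹) ^ j =
        (e : ℂ) * ((univ.filter fun i => μ i = a).card : ℕ) := by
      rw [sum_comm, sum_congr rfl (fun i _ => geom_sum_root he (hx i)), ← sum_filter, sum_const,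
        nsmul_eq_mul, mul_comm]
      refine congrArg (fun k : ℕ => (e : ℂ) * (k : ℂ)) (congrArg Finset.card ?_)
      ext i
      simp only [mem_filter, mem_univ, true_and, mul_inv_eq_one₀ (hR0 a ha)]
    have h2 : ∑ j ∈ range e, ∑ i, (μ i * a⁻¹) ^ j = ∑ j ∈ range e, ((ν * a⁻¹) ^ j +
        if j = 0 then ((p : ℂ) - 1) else 0) := by
      refine sum_congr rfl fun j hj => ?_
      simp only [mul_pow, ← Finset.sum_mul, hsumμ]
      rcases eq_or_ne j 0 with rfl | hj0
      · simp [hdeg]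
      · rw [if_neg hj0, add_zero, hval j fun hd => absurd (Nat.le_of_dvd (Nat.pos_of_ne_zero hj0) hd)
          (by simp only [Finset.mem_range] at hj; omega)]
    rw [h1, sum_add_distrib, geom_sum_root he (by rw [mul_pow, hν, inv_pow, hae, inv_one, mul_one]),
      Finset.sum_ite_eq', if_pos (Finset.mem_range.2 he)] at h2
    have hp : (p : ℂ) - 1 = (e : ℂ) * t := by rw [← het]; push_cast; ring
    rw [hp] at h2
    have h3 : (ν * a⁻¹ = 1) ↔ a = ν := by rw [mul_inv_eq_one₀ (hR0 a ha), eq_comm]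
    have he0 : (e : ℂ) ≠ 0 := Nat.cast_ne_zero.2 he.ne'
    have h4 : (((univ.filter fun i => μ i = a).card : ℕ) : ℂ) = ((t + if a = ν then 1 else 0 : ℕ) : ℂ) := by
      refine mul_left_cancel₀ he0 ?_
      rw [h2]
      by_cases h : a = ν
      · rw [if_pos (h3.2 h), if_pos h]; push_cast; ring
      · rw [if_neg (fun h' => h (h3.1 h')), if_neg h]; push_cast; ring
    exact_mod_cast h4
  have hsq : (∏ a ∈ R, a) * (∏ a ∈ R, a) = 1 := by
    have hinv : ∏ a ∈ R, a⁻¹ = ∏ a ∈ R, a :=
      Finset.prod_bij (fun a _ => a⁻¹) (fun a ha => by rw [hRmem, inv_pow, (hRmem a).1 ha, inv_one])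
        (fun a _ b _ h => inv_injective h)
        (fun b hb => ⟨b⁻¹, by rw [hRmem, inv_pow, (hRmem b).1 hb, inv_one], inv_inv b⟩)
        (fun a _ => rfl)
    nth_rewrite 2 [← hinv]
    rw [← prod_mul_distrib]
    exact prod_eq_one fun a ha => mul_inv_cancel₀ (hR0 a ha)
  have hprod : ∏ i, μ i = (∏ a ∈ R, a) ^ t * ν := by
    rw [← prod_fiberwise_of_maps_to (g := μ) (t := R) (fun i _ => (hRmem _).2 (hμ i)),
      ← Finset.prod_pow]
    have : ∀ a ∈ R, ∏ i ∈ univ with μ i = a, μ i = a ^ t * if a = ν then a else 1 := by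
      intro a ha
      rw [prod_congr rfl (fun i hi => (mem_filter.1 hi).2), prod_const, hmult a ha, pow_add]
      by_cases h : a = ν <;> simp [h]
    rw [prod_congr rfl this, prod_mul_distrib, Finset.prod_ite_eq', if_pos ((hRmem ν).2 hν)]
  obtain ⟨t', rfl⟩ := ht
  rw [hprod, pow_add, ← mul_pow, hsq, one_pow, one_mul] at hdet
  exact hdet

end CfsgLib.PrimeDegreeTI
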