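import Cfsg.Agent.Lib.Transfer.AbelianSylow

/-!
# Two transfer arguments for trivial intersection cyclic subgroups
-/

set_option autoImplicit false
set_option linter.style.haveILetI false
set_option linter.unusedSectionVars false

namespace CfsgLib.PrimeDegreeTI

open Finset Subgroup MulAction

variable {G : Type*} [Group G] [Finite G]

/-- A Sylow subgroup of a perfect group has no sign homomorphism with an odd transfer. -/
theorem transfer_contradiction (hperf : commutator G = ⊤) (S : Sylow 2 G) (N : Subgroup G)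
    (hSN : (S : Subgroup G) ≤ N) (ε : (S : Subgroup G) →* ℤˣ) (y : G)
    (ha : ∀ (g : G) (n : ℕ) (h : g⁻¹ * y ^ n * g ∈ (S : Subgroup G)), g ∉ N → ε ⟨_, h⟩ = 1)
    (hb : ∀ g ∈ N, ∃ h : g⁻¹ * y * g ∈ (S : Subgroup G), ε ⟨_, h⟩ = -1) : False := by
  classical
  haveI : Fact (Nat.Prime 2) := ⟨Nat.prime_two⟩
  haveI := Fintype.ofFinite (Quotient (orbitRel (zpowers y) (G ⧸ (S : Subgroup G))))
  have h1 : MonoidHom.transfer ε y = 1 := by
    have := Abelianization.commutator_subset_ker (MonoidHom.transfer ε) (hperf ▸ mem_top y)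
    exact MonoidHom.mem_ker.1 this
  rw [MonoidHom.transfer_eq_prod_quotient_orbitRel_zpowers_quot] at h1
  have hper : ∀ c : G ⧸ (S : Subgroup G), c.out ∈ N → y • c = c := by
    intro c hc
    obtain ⟨h, -⟩ := hb _ hc
    conv_rhs => rw [← QuotientGroup.out_eq' c]
    conv_lhs => rw [← QuotientGroup.out_eq' c]
    rw [Quotient.smul_mk, QuotientGroup.eq, smul_eq_mul]
    have := inv_mem h
    simpa [mul_assoc] using this
  have hterm : ∀ q : Quotient (orbitRel (zpowers y) (G ⧸ (S : Subgroup G))),
      ε ⟨q.out.out⁻¹ * y ^ Function.minimalPeriod (y • ·) q.out * q.out.out,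
        QuotientGroup.out_conj_pow_minimalPeriod_mem (S : Subgroup G) y q.out⟩ =
      if q.out.out ∈ N then -1 else 1 := by
    intro q
    split_ifs with hq
    · have hmin : Function.minimalPeriod (y • ·) q.out = 1 :=
        Function.minimalPeriod_eq_one_iff_isFixedPt.2 (hper _ hq)
      obtain ⟨h, hε⟩ := hb _ hq
      rw [← hε]
      congr 1
      exact Subtype.ext (by simp [hmin])
    · exact ha _ _ _ hq
  simp only [hterm, Finset.prod_ite, Finset.prod_const, one_pow, mul_one] at h1
  have hcard : (univ.filter fun q : Quotient (orbitRel (zpowers y) (G ⧸ (S : Subgroup G))) =>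
      q.out.out ∈ N).card = (S : Subgroup G).relIndex N := by
    haveI := Fintype.ofFinite (G ⧸ (S : Subgroup G))
    have hfix : ∀ c : G ⧸ (S : Subgroup G), c.out ∈ N →
        (Quotient.mk (orbitRel (zpowers y) (G ⧸ (S : Subgroup G))) c).out = c := by
      intro c hc
      have h2 := Quotient.mk_out (s := orbitRel (zpowers y) (G ⧸ (S : Subgroup G))) c
      obtain ⟨⟨z, hz⟩, hzc⟩ := (orbitRel_apply.1 h2)
      obtain ⟨i, rfl⟩ := mem_zpowers_iff.1 hz
      rw [← hzc]
      show y ^ i • c = c
      have : y ∈ stabilizer G c := hper c hc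
      exact zpow_mem this i
    have e1 : (univ.filter fun q : Quotient (orbitRel (zpowers y) (G ⧸ (S : Subgroup G))) =>
        q.out.out ∈ N).card = (univ.filter fun c : G ⧸ (S : Subgroup G) => c.out ∈ N).card := by
      refine Finset.card_bij (fun q _ => q.out) (fun q hq => by simpa using hq)
        (fun a _ b _ h => Quotient.out_injective h) fun c hc => ?_
      simp only [mem_filter, mem_univ, true_and] at hc
      exact ⟨Quotient.mk _ c, by simp [hfix c hc, hc], hfix c hc⟩
    rw [e1, ← Fintype.card_subtype, ← Nat.card_eq_fintype_card]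
    refine Nat.card_congr (Equiv.ofBijective
      (fun c => (QuotientGroup.mk (⟨c.1.out, c.2⟩ : N) : N ⧸ (S : Subgroup G).subgroupOf N)) ⟨?_, ?_⟩)
    · intro a b hab
      rw [QuotientGroup.eq, mem_subgroupOf] at hab
      refine Subtype.ext ?_
      rw [← QuotientGroup.out_eq' a.1, ← QuotientGroup.out_eq' b.1, QuotientGroup.eq]
      exact hab
    · intro d
      induction d using QuotientGroup.induction_on with
      | H g =>
      obtain ⟨w, hw⟩ := QuotientGroup.mk_out_eq_mul (S : Subgroup G) (g : G)
      refine ⟨⟨QuotientGroup.mk (g : G), by rw [hw]; exact mul_mem g.2 (hSN w.2)⟩, ?_⟩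
      rw [QuotientGroup.eq, mem_subgroupOf]
      simp [hw]
  rw [hcard] at h1
  have hodd : Odd ((S : Subgroup G).relIndex N) := by
    rw [Nat.odd_iff, ← Nat.two_dvd_ne_zero]
    exact fun hd => S.not_dvd_index (hd.trans (relIndex_dvd_index_of_le hSN))
  rw [hodd.neg_one_pow] at h1
  exact absurd h1 (by decide)

/-- Burnside's criterion in a simple group. -/
theorem burnside_contradiction [IsSimpleGroup G] (hnc : ∃ x y : G, x * y ≠ y * x) {q : ℕ} [Fact q.Prime]
    (S : Sylow q G) (hS : (S : Subgroup G) ≠ ⊥)
    (h : normalizer ((S : Subgroup G) : Set G) ≤ centralizer ((S : Subgroup G) : Set G)) : False := by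
  have hc := MonoidHom.ker_transferSylow_isComplement' S h
  rcases (MonoidHom.normal_ker (MonoidHom.transferSylow S h)).eq_bot_or_eq_top with hk | hk
  · rw [hk] at hc
    have hS' : (S : Subgroup G) = ⊤ := isComplement'_bot_left.1 hc
    obtain ⟨x, y, hxy⟩ := hnc
    have h2 := h (by rw [hS']; exact Subgroup.le_normalizer (mem_top x) : x ∈ normalizer ((S : Subgroup G) : Set G))
    exact hxy ((mem_centralizer_iff.1 h2 y (by rw [hS']; exact mem_top y)).symm)
  · rw [hk] at hc
    exact hS (isComplement'_top_left.1 hc)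

end CfsgLib.PrimeDegreeTI
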