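import Cfsg.Agent.S0508
import Cfsg.Agent.Lib.PrimeDegreeTI.Transfer
import Cfsg.Agent.Lib.DGroup.MaxClass
import Cfsg.Agent.Lib.PGroups.MaximalClassTwo

/-!
# A simple group with an involution whose centraliser has order four
-/

set_option autoImplicit false
set_option linter.style.haveILetI false
set_option linter.unusedSectionVars false

namespace CfsgLib.PrimeDegreeTI

open Subgroup

variable {G : Type*} [Group G] [Finite G] [IsSimpleGroup G]

theorem sylow_two_of_centralizer_four (hperf : _root_.commutator G = ⊤) {z : G} (hz : orderOf z = 2)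
    (hC : Nat.card (centralizer ({z} : Set G)) = 4) (T : Sylow 2 G)
    (hT : centralizer ({z} : Set G) ≤ (T : Subgroup G)) :
    (T : Subgroup G) = centralizer ({z} : Set G) := by
  classical
  haveI : Fact (Nat.Prime 2) := ⟨Nat.prime_two⟩
  set C := centralizer ({z} : Set G) with hCdef
  by_contra hne
  obtain ⟨n, hn⟩ := IsPGroup.iff_card.1 T.isPGroup'
  have hn3 : 3 ≤ n := by
    by_contra hlt
    refine hne (Subgroup.eq_of_le_of_card_ge hT ?_).symm
    rw [hC, hn]
    exact Nat.pow_le_pow_right two_pos (show n ≤ 2 by omega)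
  have hzC : z ∈ C := mem_centralizer_singleton_iff.2 rfl
  obtain ⟨z', hz'⟩ : ∃ z' : (T : Subgroup G), (z' : G) = z := ⟨⟨z, hT hzC⟩, rfl⟩
  have hcent : Nat.card (centralizer ({z'} : Set (T : Subgroup G))) = 4 := by
    rw [← hC]
    refine Nat.card_congr
      { toFun := fun g => ⟨((g : (T : Subgroup G)) : G), mem_centralizer_singleton_iff.2 (by
          rw [← hz']; exact congrArg Subtype.val (mem_centralizer_singleton_iff.1 g.2))⟩
        invFun := fun g => ⟨⟨g.1, hT g.2⟩, mem_centralizer_singleton_iff.2 (Subtype.ext (by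
          show g.1 * (z' : G) = (z' : G) * g.1
          rw [hz']; exact mem_centralizer_singleton_iff.1 g.2))⟩
        left_inv := fun g => rfl
        right_inv := fun g => rfl }
  have hcl := CfsgLib.DGroup.nilpotencyClass_of_small_cent n (T : Subgroup G) hn3 hn
    ⟨z', by rw [← Subgroup.orderOf_coe, hz', hz], hcent⟩
  obtain ⟨c, hc⟩ := CfsgLib.PGroups.exists_orderOf_eq_of_maximalClass hn3 hn hcl
  let M : Subgroup (T : Subgroup G) := zpowers c
  have hMidx : M.index = 2 := by
    have := M.card_mul_index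
    rw [Nat.card_zpowers, hc, hn, show 2 ^ n = 2 ^ (n - 1) * 2 by rw [← pow_succ]; congr 1; omega] at this
    exact Nat.eq_of_mul_eq_mul_left (pow_pos two_pos _) this
  haveI : M.Normal := normal_of_index_eq_two hMidx
  -- the involution of `M` is central in `T`, so not conjugate to `z`
  have hnot : ∀ (g : G) (h : g⁻¹ * z * g ∈ (T : Subgroup G)),
      (⟨g⁻¹ * z * g, h⟩ : (T : Subgroup G)) ∉ M := by
    intro g h hM
    obtain ⟨w, hw⟩ : ∃ w : (T : Subgroup G), w = ⟨g⁻¹ * z * g, h⟩ := ⟨_, rfl⟩
    rw [← hw] at hM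
    have hw2 : orderOf w = 2 := by
      rw [← Subgroup.orderOf_coe, hw]
      show orderOf (g⁻¹ * z * g) = 2
      rw [show g⁻¹ * z * g = MulAut.conj g⁻¹ z by simp, MulEquiv.orderOf_eq, hz]
    have hcentral : ∀ v : (T : Subgroup G), v * w = w * v := by
      intro v
      have h2 : v * w * v⁻¹ ∈ M := (inferInstance : M.Normal).conj_mem w hM v
      have hM2 : ∀ a : (T : Subgroup G), a ∈ M → orderOf a = 2 → a = c ^ 2 ^ (n - 2) := by
        intro a ha ha2
        obtain ⟨i, hi⟩ := (mem_powers_iff_mem_zpowers).2 ha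
        have hi' : c ^ i = a := hi
        have h3 : c ^ (i * 2) = 1 := by
          rw [pow_mul, hi']
          exact orderOf_dvd_iff_pow_eq_one.1 ha2.dvd
        rw [← orderOf_dvd_iff_pow_eq_one, hc, show 2 ^ (n - 1) = 2 ^ (n - 2) * 2 by
          rw [← pow_succ]; congr 1; omega] at h3
        obtain ⟨j, rfl⟩ := Nat.dvd_of_mul_dvd_mul_right two_pos h3
        rcases Nat.even_or_odd' j with ⟨j', rfl | rfl⟩
        · exfalso
          rw [show 2 ^ (n - 2) * (2 * j') = 2 ^ (n - 2) * 2 * j' by ring, ← pow_succ,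
            show n - 2 + 1 = n - 1 by omega, ← hc, pow_mul, pow_orderOf_eq_one, one_pow] at hi'
          rw [← hi', orderOf_one] at ha2
          omega
        · rw [← hi', show 2 ^ (n - 2) * (2 * j' + 1) = 2 ^ (n - 2) * 2 * j' + 2 ^ (n - 2) by ring,
            ← pow_succ, show n - 2 + 1 = n - 1 by omega, ← hc, pow_add, pow_mul, pow_orderOf_eq_one, one_pow,
            one_mul]
      have h4 : v * w * v⁻¹ = w := by
        rw [hM2 _ h2 (((MulAut.conj v).orderOf_eq w).trans hw2), ← hM2 _ hM hw2]
      calc v * w = v * w * v⁻¹ * v := by group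
        _ = w * v := by rw [h4]
    have hle : (T : Subgroup G).map (MulAut.conj g).toMonoidHom ≤ C := by
      rintro _ ⟨v, hv, rfl⟩
      rw [hCdef, mem_centralizer_singleton_iff]
      have h5 := congrArg Subtype.val (hcentral ⟨v, hv⟩)
      push_cast at h5
      rw [hw] at h5
      show g * v * g⁻¹ * z = z * (g * v * g⁻¹)
      calc g * v * g⁻¹ * z = g * (v * (g⁻¹ * z * g)) * g⁻¹ := by group
        _ = g * (g⁻¹ * z * g * v) * g⁻¹ := by rw [h5]
        _ = z * (g * v * g⁻¹) := by group
    have h6 := Subgroup.card_le_of_le hle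
    rw [Subgroup.card_map_of_injective (MulAut.conj g).injective, hC, hn] at h6
    have := Nat.pow_le_pow_right two_pos hn3
    omega
  let ε : (T : Subgroup G) →* ℤˣ :=
    { toFun := fun a => if a ∈ M then 1 else -1
      map_one' := if_pos (one_mem M)
      map_mul' := fun v w => by
        have h1 := mul_mem_iff_of_index_two (H := M) hMidx (a := v) (b := w)
        by_cases hv : v ∈ M <;> by_cases hw : w ∈ M <;> simp [h1, hv, hw] }
  haveI := Fintype.ofFinite (Quotient (MulAction.orbitRel (zpowers z) (G ⧸ (T : Subgroup G))))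
  haveI := Fintype.ofFinite (G ⧸ (T : Subgroup G))
  have h1 : MonoidHom.transfer ε z = 1 := by
    have := Abelianization.commutator_subset_ker (MonoidHom.transfer ε) (hperf ▸ mem_top z)
    exact MonoidHom.mem_ker.1 this
  rw [MonoidHom.transfer_eq_prod_quotient_orbitRel_zpowers_quot] at h1
  have hterm : ∀ q : Quotient (MulAction.orbitRel (zpowers z) (G ⧸ (T : Subgroup G))),
      ε ⟨q.out.out⁻¹ * z ^ Function.minimalPeriod (z • ·) q.out * q.out.out,
        QuotientGroup.out_conj_pow_minimalPeriod_mem (T : Subgroup G) z q.out⟩ =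
      if z • q.out = q.out then -1 else 1 := by
    intro q
    have hmem := QuotientGroup.out_conj_pow_minimalPeriod_mem (T : Subgroup G) z q.out
    split_ifs with hq
    · have hmin : Function.minimalPeriod (z • ·) q.out = 1 :=
        Function.minimalPeriod_eq_one_iff_isFixedPt.2 hq
      have hmem' : q.out.out⁻¹ * z * q.out.out ∈ (T : Subgroup G) := by
        simpa [hmin] using hmem
      have hval : ε ⟨_, hmem'⟩ = -1 := if_neg (hnot _ hmem')
      rw [← hval]
      congr 1
      exact Subtype.ext (by simp [hmin])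
    · have hmin : Function.minimalPeriod (z • ·) q.out = 2 := by
        refine Function.minimalPeriod_eq_prime ?_ hq
        show ((fun x => z • x)^[2]) q.out = q.out
        simp only [Function.iterate_succ, Function.iterate_zero, Function.comp_apply, id]
        rw [smul_smul, ← pow_two, show z ^ 2 = 1 from orderOf_dvd_iff_pow_eq_one.1 hz.dvd, one_smul]
      rw [show (⟨_, hmem⟩ : (T : Subgroup G)) = 1 from Subtype.ext (by
        simp [hmin, show z ^ 2 = 1 from orderOf_dvd_iff_pow_eq_one.1 hz.dvd]), map_one]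
  simp only [hterm, Finset.prod_ite, Finset.prod_const, one_pow, mul_one] at h1
  have hfix : ∀ x : G ⧸ (T : Subgroup G), z • x = x →
      (Quotient.mk (MulAction.orbitRel (zpowers z) (G ⧸ (T : Subgroup G))) x).out = x := by
    intro x hx
    obtain ⟨⟨w, hw⟩, hwx⟩ := MulAction.orbitRel_apply.1
      (Quotient.mk_out (s := MulAction.orbitRel (zpowers z) (G ⧸ (T : Subgroup G))) x)
    obtain ⟨i, rfl⟩ := mem_zpowers_iff.1 hw
    rw [← hwx]
    show z ^ i • x = x
    have : z ∈ MulAction.stabilizer G x := hx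
    exact zpow_mem this i
  have hcard : (Finset.univ.filter fun q : Quotient (MulAction.orbitRel (zpowers z) (G ⧸ (T : Subgroup G))) =>
      z • q.out = q.out).card = Nat.card (MulAction.fixedPoints (zpowers z) (G ⧸ (T : Subgroup G))) := by
    rw [← Fintype.card_subtype, ← Nat.card_eq_fintype_card]
    refine Nat.card_congr
      { toFun := fun q => ⟨q.1.out, fun ⟨w, hw⟩ => by
          obtain ⟨i, rfl⟩ := mem_zpowers_iff.1 hw
          show z ^ i • q.1.out = q.1.out
          have : z ∈ MulAction.stabilizer G q.1.out := q.2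
          exact zpow_mem this i⟩
        invFun := fun x => ⟨Quotient.mk _ x.1, by
          rw [hfix x.1 (x.2 ⟨z, mem_zpowers z⟩)]
          exact x.2 ⟨z, mem_zpowers z⟩⟩
        left_inv := fun q => Subtype.ext (Quotient.out_eq q.1)
        right_inv := fun x => Subtype.ext (hfix x.1 (x.2 ⟨z, mem_zpowers z⟩)) }
  have hP : IsPGroup 2 (zpowers z) := IsPGroup.of_card (n := 1) (by rw [Nat.card_zpowers, hz, pow_one])
  have hmod := hP.card_modEq_card_fixedPoints (G ⧸ (T : Subgroup G))
  have hodd : Odd ((Finset.univ.filter fun q : Quotient (MulAction.orbitRel (zpowers z) (G ⧸ (T : Subgroup G))) =>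
      z • q.out = q.out).card) := by
    rw [hcard, Nat.odd_iff]
    have h7 : ¬ 2 ∣ Nat.card (G ⧸ (T : Subgroup G)) := T.not_dvd_index
    unfold Nat.ModEq at hmod
    omega
  rw [hodd.neg_one_pow] at h1
  exact absurd h1 (by decide)

theorem psl_of_centralizer_four (hperf : _root_.commutator G = ⊤) (hnc : ∃ x y : G, x * y ≠ y * x)
    {z : G} (hz : orderOf z = 2) (hC : Nat.card (centralizer ({z} : Set G)) = 4) :
    ∃ (F : Type) (_ : Field F) (_ : Fintype F), Odd (Fintype.card F) ∧
      Nonempty (G ≃* Matrix.ProjectiveSpecialLinearGroup (Fin 2) F) := by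
  classical
  haveI : Fact (Nat.Prime 2) := ⟨Nat.prime_two⟩
  set C := centralizer ({z} : Set G) with hCdef
  have hCp : IsPGroup 2 C := IsPGroup.of_card (n := 2) (by rw [hC]; rfl)
  obtain ⟨T, hT⟩ := hCp.exists_le_sylow
  have hTC := sylow_two_of_centralizer_four hperf hz hC T hT
  have hT4 : Nat.card (T : Subgroup G) = 4 := by rw [hTC, hC]
  have hzC : z ∈ C := mem_centralizer_singleton_iff.2 rfl
  have hncyc : ¬ IsCyclic (T : Subgroup G) := fun hcyc => by
    have hmin : (Nat.card G).minFac = 2 := by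
      rw [Nat.minFac_eq_two_iff, ← hz]
      exact orderOf_dvd_natCard z
    refine burnside_contradiction hnc T (fun hbot => ?_) (IsCyclic.normalizer_le_centralizer hmin hcyc)
    rw [hbot, Subgroup.card_bot] at hT4
    omega
  have hK : IsKleinFour (T : Subgroup G) := by
    refine ⟨hT4, Nat.dvd_antisymm (Monoid.exponent_dvd_of_forall_pow_eq_one fun x => ?_) ?_⟩
    · rw [← orderOf_dvd_iff_pow_eq_one]
      have h4 : orderOf x ∣ 2 ^ 2 := by
        rw [show (2 : ℕ) ^ 2 = 4 from rfl, ← hT4]; exact orderOf_dvd_natCard x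
      obtain ⟨i, hi, hord⟩ := (Nat.dvd_prime_pow Nat.prime_two).1 h4
      interval_cases i
      · rw [hord]; exact one_dvd _
      · rw [hord]; exact dvd_rfl
      · exact absurd (isCyclic_of_orderOf_eq_card x (by rw [hord, hT4]; rfl)) hncyc
    · have hzT : z ∈ (T : Subgroup G) := hT hzC
      have h1 : orderOf (⟨z, hzT⟩ : (T : Subgroup G)) = 2 := by rw [Subgroup.orderOf_mk, hz]
      exact dvd_trans h1.symm.dvd (Monoid.order_dvd_exponent _)
  have hD : IsKleinFour (DihedralGroup 2) := ⟨by rw [DihedralGroup.nat_card], by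
    rw [DihedralGroup.exponent]; rfl⟩
  obtain ⟨eS⟩ : Nonempty ((T : Subgroup G) ≃* DihedralGroup 2) := IsKleinFour.nonempty_mulEquiv
  have hO : (Cfsg.oddCore C).map C.subtype = ⊥ := by
    rw [(Subgroup.map_eq_bot_iff_of_injective _ C.subtype_injective)]
    refine Subgroup.eq_bot_of_card_eq _ ?_
    have h1 : Odd (Nat.card (Cfsg.oddCore C)) := CfsgLib.Base.odd_card_oddCore _
    have h2 := Subgroup.card_subgroup_dvd_card (Cfsg.oddCore C)
    rw [hC] at h2
    have h3 := Nat.le_of_dvd (by norm_num) h2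
    interval_cases hcd : Nat.card (Cfsg.oddCore C)
    all_goals first | rfl | (exfalso; revert h1 h2; decide) | omega
  exact Cfsg.Agent.S0508.result T 2 le_rfl ⟨eS⟩ z hz (hT hzC)
    (fun v hv => mem_centralizer_singleton_iff.1 (by rw [hTC] at hv; exact hv)) ⊥ hO.symm
    (fun h => absurd rfl h)
    (fun v _ _ y hy => by rw [Subgroup.mem_bot] at hy; subst hy; simp)
    (fun Y hY hY0 => absurd (le_bot_iff.1 hY) hY0)

end CfsgLib.PrimeDegreeTI
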