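import Cfsg.Agent.Lib.Chars.Induction
import Cfsg.Agent.Lib.PrimeDegreeTI.Roots

/-!
# The exceptional character over a cyclic trivial intersection subgroup

`E = ⟨s⟩` is a TI subgroup inverted by the elements of `N(E) \ E`, `|N(E) : E| = 2`. If `χ` is an
irreducible character with value `1` on `E \ 1` then `1 + χ - Ind_E^G (1 - λ)` is irreducible for a
faithful linear character `λ` of `E`.
-/

set_option autoImplicit false
set_option linter.style.haveILetI false
set_option linter.unusedSectionVars false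

namespace CfsgLib.PrimeDegreeTI

open Cfsg Chars Finset
open scoped ComplexConjugate

universe u

variable {G : Type u} [Group G] [Finite G]

theorem exists_exceptional (χ : IrrCharacter G) {p : ℕ} (hdeg : (χ : G → ℂ) 1 = p) (hp : p ≠ 1)
    (s : G) {e : ℕ} (hse : orderOf s = e) (he : 3 ≤ e)
    (hχ : ∀ j : ℕ, ¬ e ∣ j → (χ : G → ℂ) (s ^ j) = 1)
    (hN : Nat.card (Subgroup.normalizer (Subgroup.zpowers s : Set G)) = 2 * e)
    (hinv : ∀ g ∈ Subgroup.normalizer (Subgroup.zpowers s : Set G), g ∉ Subgroup.zpowers s →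
      ∀ x ∈ Subgroup.zpowers s, g * x * g⁻¹ = x⁻¹)
    (hTI : ∀ g : G, g ∉ Subgroup.normalizer (Subgroup.zpowers s : Set G) →
      ∀ x ∈ Subgroup.zpowers s, g * x * g⁻¹ ∈ Subgroup.zpowers s → x = 1)
    {ω : ℂ} (hω : IsPrimitiveRoot ω e) :
    ∃ X : IrrCharacter G, (X : G → ℂ) 1 = p + 1 ∧
      ∀ j : ℕ, ¬ e ∣ j → (X : G → ℂ) (s ^ j) = ω ^ j + (ω ^ j)⁻¹ := by
  classical
  haveI := Fintype.ofFinite G
  set E := Subgroup.zpowers s with hE
  set N := Subgroup.normalizer (E : Set G) with hNdef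
  haveI := Fintype.ofFinite E
  have hω0 : ω ≠ 0 := hω.ne_zero (by omega)
  -- the linear character
  obtain ⟨ωu, hωu⟩ : ∃ w : ℂˣ, (w : ℂ) = ω := ⟨Units.mk0 ω hω0, rfl⟩
  have hgen : ∀ x : E, x ∈ Subgroup.zpowers (⟨s, Subgroup.mem_zpowers s⟩ : E) := by
    rintro ⟨x, hx⟩
    obtain ⟨i, rfl⟩ := Subgroup.mem_zpowers_iff.1 hx
    exact ⟨i, Subtype.ext (by simp)⟩
  have hωord : orderOf ωu ∣ orderOf (⟨s, Subgroup.mem_zpowers s⟩ : E) := by
    rw [Subgroup.orderOf_mk, hse]
    exact orderOf_dvd_of_pow_eq_one (Units.ext (by rw [Units.val_pow_eq_pow_val, hωu, hω.pow_eq_one, Units.val_one]))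
  let lam : E →* ℂˣ := monoidHomOfForallMemZpowers hgen hωord
  have hlam : ∀ (j : ℕ) (h : s ^ j ∈ E), ((lam ⟨s ^ j, h⟩ : ℂˣ) : ℂ) = ω ^ j := fun j h => by
    rw [show (⟨s ^ j, h⟩ : E) = (⟨s, Subgroup.mem_zpowers s⟩ : E) ^ j from Subtype.ext rfl, map_pow,
      monoidHomOfForallMemZpowers_apply_gen, Units.val_pow_eq_pow_val, hωu]
  -- the function
  let f : E → ℂ := (fun _ => 1) - fun x => ((lam x : ℂˣ) : ℂ)
  have hfgen : IsGeneralizedCharacter E f :=
    ⟨_, _, isCharacter_of_irr (principal E).2, isCharacter_of_irr (isIrrCharacter_linear lam), by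
      funext x; simp [f, principal]⟩
  let β := indFun E f
  have hβgen : IsGeneralizedCharacter G β := isGeneralized_indFun E hfgen
  have hβc : IsClassFunction G β := isClassFunction_of_isGeneralized hβgen
  have hβ1 : β 1 = 0 := by
    simp only [β, indFun_one_apply, f, Pi.sub_apply, map_one, Units.val_one, sub_self, mul_zero]
  have hNE : E ≤ N := Subgroup.le_normalizer
  -- values on `E`
  have hcE : Nat.card E = e := by rw [hE, Nat.card_zpowers, hse]
  have hfE : ∀ x : E, β x = f x + f x⁻¹ := by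
    intro x
    rcases eq_or_ne x 1 with rfl | hx1
    · rw [Subgroup.coe_one, hβ1]; simp [f]
    have hx1' : (x : G) ≠ 1 := fun h => hx1 (Subtype.ext h)
    have hterm : ∀ y : G, extendByZero E f (y⁻¹ * x * y) =
        (if y ∈ E then f x else 0) + (if y ∈ N ∧ y ∉ E then f x⁻¹ else 0) := by
      intro y
      by_cases hyE : y ∈ E
      · have hc : y⁻¹ * (x : G) * y = x := by
          obtain ⟨i, rfl⟩ := Subgroup.mem_zpowers_iff.1 hyE
          obtain ⟨k, hk⟩ := Subgroup.mem_zpowers_iff.1 x.2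
          rw [← hk]; group
        rw [if_pos hyE, if_neg (fun h => h.2 hyE), add_zero, hc, extendByZero_coe]
      by_cases hyN : y ∈ N
      · have hc : y⁻¹ * (x : G) * y = (x : G)⁻¹ := by
          have := hinv y⁻¹ (inv_mem hyN) (fun h => hyE (by simpa using inv_mem h)) x x.2
          simpa using this
        rw [if_neg hyE, if_pos ⟨hyN, hyE⟩, zero_add, hc, ← Subgroup.coe_inv, extendByZero_coe]
      · rw [if_neg hyE, if_neg (fun h => hyN h.1), add_zero, extendByZero_of_not_mem]
        intro hm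
        exact hx1' (hTI y⁻¹ (fun h => hyN (by simpa using inv_mem h)) x x.2 (by simpa using hm))
    have hN1 : (univ.filter fun y : G => y ∈ E).card = e := by
      rw [← Fintype.card_subtype, ← Nat.card_eq_fintype_card]; exact hcE
    have hN2 : (univ.filter fun y : G => y ∈ N ∧ y ∉ E).card = e := by
      have h1 : (univ.filter fun y : G => y ∈ N).card = 2 * e := by
        rw [← Fintype.card_subtype, ← Nat.card_eq_fintype_card]; exact hN
      have h2 := Finset.card_filter_add_card_filter_not (s := univ.filter fun y : G => y ∈ N)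
        (fun y : G => y ∈ E)
      rw [filter_filter, filter_filter, h1] at h2
      have h3 : (univ.filter fun y : G => y ∈ N ∧ y ∈ E) = univ.filter fun y : G => y ∈ E := by
        ext y; simp only [mem_filter, mem_univ, true_and]; exact ⟨fun h => h.2, fun h => ⟨hNE h, h⟩⟩
      rw [h3, hN1] at h2
      omega
    show indFun E f x = _
    rw [indFun_apply, sum_congr rfl (fun y _ => hterm y), sum_add_distrib, ← sum_filter, ← sum_filter,
      sum_const, sum_const, hN1, hN2, hcE, nsmul_eq_mul, nsmul_eq_mul, ← mul_add, ← mul_assoc,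
      inv_mul_cancel₀ (Nat.cast_ne_zero.2 (by omega)), one_mul]
  have hfj : ∀ (j : ℕ) (h : s ^ j ∈ E), f ⟨s ^ j, h⟩ = 1 - ω ^ j := fun j h => by
    simp only [f, Pi.sub_apply, hlam]
  have hfj' : ∀ (j : ℕ) (h : s ^ j ∈ E), f (⟨s ^ j, h⟩ : E)⁻¹ = 1 - (ω ^ j)⁻¹ := fun j h => by
    simp only [f, Pi.sub_apply, map_inv, Units.val_inv_eq_inv_val, hlam]
  have hβj : ∀ j : ℕ, β (s ^ j) = 2 - (ω ^ j + (ω ^ j)⁻¹) := by
    intro j
    have hm : s ^ j ∈ E := Subgroup.npow_mem_zpowers s j
    rw [show s ^ j = ((⟨s ^ j, hm⟩ : E) : G) from rfl, hfE, hfj, hfj']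
    ring
  -- inner products through Frobenius reciprocity
  have hinner : ∀ φ : G → ℂ, IsClassFunction G φ →
      classInner β φ = (e : ℂ)⁻¹ * ∑ j ∈ range e, (1 - ω ^ j) * conj (φ (s ^ j)) := by
    intro φ hφ
    show classInner (indFun E f) φ = _
    rw [inner_indFun E f hφ, inner_def, hcE]
    congr 1
    have := sum_zpowers s fun y => if h : y ∈ E then f ⟨y, h⟩ * conj (φ y) else 0
    rw [hse] at this
    convert this using 1
    · refine Finset.sum_congr rfl fun x _ => ?_
      rw [dif_pos x.2]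
    · refine Finset.sum_congr rfl fun j _ => ?_
      rw [dif_pos (Subgroup.npow_mem_zpowers s j), hfj]
  have hsum : ∀ i : ℤ, ∑ j ∈ range e, (ω ^ i) ^ j = if (e : ℤ) ∣ i then (e : ℂ) else 0 :=
    sum_zpow_root hω
  have hs1 : ∑ j ∈ range e, ω ^ j = 0 := by
    have := hsum 1
    rw [if_neg (by rw [Int.natCast_dvd]; simp; omega), zpow_one] at this
    exact this
  have hs2 : ∑ j ∈ range e, (ω ^ j * ω ^ j) = 0 := by
    have := hsum 2
    rw [if_neg (by rw [Int.natCast_dvd]; exact fun h => absurd (Nat.le_of_dvd (by simp) h) (by simp; omega))] at this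
    rw [← this]
    exact Finset.sum_congr rfl fun j _ => by rw [zpow_two, mul_pow]
  have hs3 : ∑ j ∈ range e, (ω ^ j)⁻¹ = 0 := by
    have := hsum (-1)
    rw [if_neg (by rw [Int.natCast_dvd]; simp; omega)] at this
    rw [← this]
    exact Finset.sum_congr rfl fun j _ => by rw [zpow_neg_one, inv_pow]
  have hcw : ∀ j : ℕ, conj (ω ^ j) = (ω ^ j)⁻¹ := fun j => by
    rw [Complex.inv_eq_conj]
    exact Complex.norm_eq_one_of_pow_eq_one (by rw [← pow_mul, mul_comm, pow_mul, hω.pow_eq_one, one_pow]) (by omega : e ≠ 0)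
  have he0 : (e : ℂ) ≠ 0 := Nat.cast_ne_zero.2 (by omega)
  have hb1 : classInner β (principal G : G → ℂ) = 1 := by
    rw [hinner _ (isClassFunction_irr _)]
    simp only [show ∀ g : G, (principal G : G → ℂ) g = 1 from fun g => rfl, map_one, mul_one,
      sum_sub_distrib, sum_const, card_range, nsmul_eq_mul, hs1, sub_zero]
    exact inv_mul_cancel₀ he0
  have hbχ : classInner β (χ : G → ℂ) = 1 := by
    rw [hinner _ (isClassFunction_irr _)]
    have : ∀ j ∈ range e, (1 - ω ^ j) * conj ((χ : G → ℂ) (s ^ j)) = 1 - ω ^ j := fun j hj => by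
      rcases eq_or_ne j 0 with rfl | h
      · simp
      · rw [hχ j (fun hd => absurd (Nat.le_of_dvd (Nat.pos_of_ne_zero h) hd) (by simp only [Finset.mem_range] at hj; omega)),
          map_one, mul_one]
    rw [sum_congr rfl this, sum_sub_distrib, sum_const, card_range, nsmul_eq_mul, mul_one, hs1, sub_zero,
      inv_mul_cancel₀ he0]
  have hbb : classInner β β = 3 := by
    rw [hinner _ hβc]
    have : ∀ j ∈ range e, (1 - ω ^ j) * conj (β (s ^ j)) =
        3 - 3 * ω ^ j - (ω ^ j)⁻¹ + ω ^ j * ω ^ j := fun j _ => by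
      have h0 : ω ^ j ≠ 0 := pow_ne_zero _ hω0
      rw [hβj, map_sub, map_add, map_inv₀, hcw, map_ofNat, inv_inv]
      field_simp
      ring
    rw [sum_congr rfl this, sum_add_distrib, sum_sub_distrib, sum_sub_distrib, ← mul_sum, hs1, hs2, hs3,
      sum_const, card_range, nsmul_eq_mul]
    simp [he0]
  have hne : χ ≠ principal G := fun h => hp (by
    have := hdeg
    rw [h] at this
    simp only [principal] at this
    exact_mod_cast this.symm)
  let X : G → ℂ := (principal G : G → ℂ) + (χ : G → ℂ) - β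
  have hXgen : IsGeneralizedCharacter G X := by
    obtain ⟨a, b, ha, hb, hab⟩ := hβgen
    refine ⟨(principal G : G → ℂ) + (χ : G → ℂ) + b, a,
      isCharacter_add (isCharacter_add (isCharacter_of_irr (principal G).2) (isCharacter_of_irr χ.2)) hb, ha, ?_⟩
    simp only [X, hab]
    abel
  have hX1 : X 1 = p + 1 := by
    simp only [X, Pi.add_apply, Pi.sub_apply, hdeg, hβ1, principal]
    ring
  have hb1' : classInner (principal G : G → ℂ) β = 1 := by rw [← inner_conj, hb1, map_one]
  have hbχ' : classInner (χ : G → ℂ) β = 1 := by rw [← inner_conj, hbχ, map_one]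
  have hXX : classInner X X = 1 := by
    simp only [X, Chars.inner_sub_left, Chars.inner_sub_right, Chars.inner_add_left,
      Chars.inner_add_right, inner_irr_self, inner_irr_ne hne, inner_irr_ne hne.symm, hb1, hbχ, hbb,
      hb1', hbχ']
    norm_num
  refine ⟨⟨X, irr_of_norm_one hXgen hXX (by rw [hX1]; simp; positivity)⟩, hX1, fun j hj => ?_⟩
  simp only [X, Pi.add_apply, Pi.sub_apply, hχ j hj, hβj, show (principal G : G → ℂ) (s ^ j) = 1 from rfl]
  ring

end CfsgLib.PrimeDegreeTI
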