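import Mathlib

/-!
# Eigenprojections of an endomorphism of finite order
-/

set_option autoImplicit false
set_option linter.unusedSectionVars false

namespace CfsgLib.PrimeDegreeTI

open Finset

variable {k : Type*} [Field k] {V : Type*} [AddCommGroup V] [Module k V]

/-- The projection onto the `a`-eigenspace of `T`, when `T ^ e = 1` and `a ^ e = 1`. -/
noncomputable def wproj (T : Module.End k V) (e : ℕ) (a : k) : Module.End k V :=
  (e : k)⁻¹ • ∑ j ∈ range e, a⁻¹ ^ j • T ^ j

variable {T : Module.End k V} {e : ℕ} {a : k}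

theorem mul_wproj (hT : T ^ e = 1) (he : 0 < e) (ha : a ^ e = 1) :
    T * wproj T e a = a • wproj T e a := by
  have ha0 : a ≠ 0 := fun h => by rw [h, zero_pow he.ne'] at ha; exact zero_ne_one ha
  rw [wproj, mul_smul_comm, smul_comm a]
  congr 1
  rw [Finset.mul_sum, Finset.smul_sum]
  let F : ℕ → Module.End k V := fun j => (a * a⁻¹ ^ j) • T ^ j
  have h1 : ∀ j, T * (a⁻¹ ^ j • T ^ j) = F (j + 1) := fun j => by
    simp only [F, mul_smul_comm, ← pow_succ']
    rw [pow_succ' a⁻¹ j, ← mul_assoc, mul_inv_cancel₀ ha0, one_mul]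
  have h2 : ∀ j, a • a⁻¹ ^ j • T ^ j = F j := fun j => smul_smul _ _ _
  have hF : F e = F 0 := by
    simp only [F, hT, pow_zero, inv_pow, ha, inv_one]
  rw [Finset.sum_congr rfl (fun j _ => h1 j), Finset.sum_congr rfl (fun j _ => h2 j)]
  have h3 := Finset.sum_range_succ' F e
  rw [Finset.sum_range_succ, hF] at h3
  exact (add_right_cancel h3).symm

theorem wproj_apply_of_eq (he : (e : k) ≠ 0) (ha0 : a ≠ 0) {y : V} (hy : T y = a • y) :
    wproj T e a y = y := by
  have hp : ∀ j : ℕ, (T ^ j) y = a ^ j • y := fun j => by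
    induction j with
    | zero => simp
    | succ j ih => rw [pow_succ', Module.End.mul_apply, ih, map_smul, hy, smul_smul, ← pow_succ]
  rw [wproj, LinearMap.smul_apply, LinearMap.sum_apply]
  simp only [LinearMap.smul_apply, hp, smul_smul, ← mul_pow, inv_mul_cancel₀ ha0, one_pow, one_smul,
    Finset.sum_const, Finset.card_range, ← Nat.cast_smul_eq_nsmul k, inv_mul_cancel₀ he, one_smul]

theorem apply_wproj (hT : T ^ e = 1) (he : 0 < e) (ha : a ^ e = 1) (y : V) :
    T (wproj T e a y) = a • wproj T e a y :=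
  LinearMap.congr_fun (mul_wproj hT he ha) y

theorem wproj_isProj (hT : T ^ e = 1) (he : 0 < e) (hek : (e : k) ≠ 0) (ha : a ^ e = 1) :
    LinearMap.IsProj (LinearMap.range (wproj T e a)) (wproj T e a) := by
  refine ⟨fun x => ⟨x, rfl⟩, ?_⟩
  rintro x ⟨y, rfl⟩
  exact wproj_apply_of_eq hek (fun h => by rw [h, zero_pow he.ne'] at ha; exact zero_ne_one ha)
    (apply_wproj hT he ha y)

/-- The rank of the projection modulo the characteristic. -/
theorem finrank_wproj [FiniteDimensional k V] (hT : T ^ e = 1) (he : 0 < e) (hek : (e : k) ≠ 0)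
    (ha : a ^ e = 1) :
    (Module.finrank k (LinearMap.range (wproj T e a)) : k) =
      (e : k)⁻¹ * ∑ j ∈ range e, a⁻¹ ^ j * LinearMap.trace k V (T ^ j) := by
  rw [← (wproj_isProj hT he hek ha).trace, wproj, map_smul, map_sum, smul_eq_mul]
  simp only [map_smul, smul_eq_mul]

/-- Weights shift along an operator `D` with `T D = c • D T`. -/
theorem wproj_mul_twist {D : Module.End k V} {c : k} (hD : T * D = c • (D * T)) :
    wproj T e a * D = D * wproj T e (a * c⁻¹) := by
  have hp : ∀ j : ℕ, T ^ j * D = c ^ j • (D * T ^ j) := fun j => by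
    induction j with
    | zero => simp
    | succ j ih =>
      rw [pow_succ', mul_assoc, ih, mul_smul_comm, ← mul_assoc, hD, smul_mul_assoc, smul_smul, mul_assoc,
        ← pow_succ]
  simp only [wproj, smul_mul_assoc, mul_smul_comm, Finset.sum_mul, Finset.mul_sum, hp, smul_smul]
  congr 1
  refine Finset.sum_congr rfl fun j _ => ?_
  rw [← mul_pow, mul_inv, inv_inv]

/-- The projections commute with an intertwining map. -/
theorem map_wproj {W : Type*} [AddCommGroup W] [Module k W] {S : Module.End k W} (F : W →ₗ[k] V)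
    {M : Submodule k W} (hM : ∀ y ∈ M, S y ∈ M) (hF : ∀ y ∈ M, F (S y) = T (F y)) {y : W} (hy : y ∈ M) :
    F (wproj S e a y) = wproj T e a (F y) := by
  have hp : ∀ j : ℕ, (S ^ j) y ∈ M ∧ F ((S ^ j) y) = (T ^ j) (F y) := fun j => by
    induction j with
    | zero => simp [hy]
    | succ j ih =>
      rw [pow_succ', Module.End.mul_apply, pow_succ', Module.End.mul_apply]
      exact ⟨hM _ ih.1, by rw [hF _ ih.1, ih.2]⟩
  simp only [wproj, LinearMap.smul_apply, LinearMap.sum_apply, map_smul, map_sum, (hp _).2]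

end CfsgLib.PrimeDegreeTI
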