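import Cfsg.Prelude.Def_Perm
import Cfsg.Agent.Lib.Perm.Module
import Cfsg.Agent.Lib.PrimeDegreeTI.Cfg
import Cfsg.Agent.Lib.PrimeDegreeTI.Weights

/-!
# A homomorphism from the augmentation of the permutation module

A vector `w` killed by the norm of `u`, outside the image of `u - 1` and of weight `m` for `s` gives a
homomorphism from the sum zero submodule of the permutation module which does not vanish.
-/

set_option autoImplicit false
set_option linter.style.haveILetI false
set_option linter.unusedSectionVars false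

namespace CfsgLib.PrimeDegreeTI

open Finset MulAction

variable {G : Type*} [Group G] [Finite G] {α : Type*} [Fintype α] [DecidableEq α] [MulAction G α]
  {p : ℕ} [Fact p.Prime] {u s : G} {a₀ : α} {m : ZMod p} {e t : ℕ}
  {k : Type*} [Field k] [CharP k p]
  {V : Type*} [AddCommGroup V] [Module k V]

/-- The multiplier in the field. -/
noncomputable def mult (k : Type*) [Field k] [CharP k p] (m : ZMod p) : k := ZMod.castHom (dvd_refl p) k m

namespace Cfg

theorem mult_pow (h : Cfg p u s a₀ m e t) : mult k m ^ e = 1 := by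
  rw [mult, ← map_pow, h.m_pow_e, map_one]

theorem mult_ne_zero (h : Cfg p u s a₀ m e t) : mult k m ≠ 0 :=
  fun h0 => by
    have := h.mult_pow (k := k)
    rw [h0, zero_pow h.e_pos.ne'] at this
    exact zero_ne_one this

theorem mult_primitive (h : Cfg p u s a₀ m e t) : IsPrimitiveRoot (mult k m) e :=
  (h.ord_m ▸ IsPrimitiveRoot.orderOf m).map_of_injective (ZMod.castHom (dvd_refl p) k).injective

theorem e_ne_zero (h : Cfg p u s a₀ m e t) : (e : k) ≠ 0 := by
  rw [Ne, CharP.cast_eq_zero_iff k p]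
  intro hd
  have := Nat.le_of_dvd h.e_pos hd
  have := h.e_lt
  omega

theorem range_upow_sub_le (τ : Representation k G V) (n : ℕ) :
    LinearMap.range (τ (u ^ n) - 1) ≤ LinearMap.range (τ u - 1) := by
  rw [map_pow, ← mul_geom_sum]
  exact LinearMap.range_comp_le_range _ _

theorem spow_stable (h : Cfg p u s a₀ m e t) (τ : Representation k G V) (i : ℕ) {y : V}
    (hy : y ∈ LinearMap.range (τ u - 1)) : τ (s ^ i) y ∈ LinearMap.range (τ u - 1) := by
  induction i with
  | zero => simpa using hy
  | succ i ih =>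
    obtain ⟨z, hz⟩ := ih
    rw [pow_succ', map_mul, Module.End.mul_apply, ← hz]
    refine range_upow_sub_le (u := u) τ m.val ⟨τ s z, ?_⟩
    have h1 : s * u = u ^ m.val * s := by rw [← h.conj_u]; group
    rw [LinearMap.sub_apply, LinearMap.sub_apply, map_sub, Module.End.one_apply, Module.End.one_apply,
      ← Module.End.mul_apply, ← Module.End.mul_apply, ← map_mul, ← map_mul, h1]

/-- The key construction. -/
theorem exists_hom (h : Cfg p u s a₀ m e t) (τ : Representation k G V) {w : V}
    (hN : ∑ i ∈ range p, (τ u ^ i) w = 0) (hw : w ∉ LinearMap.range (τ u - 1))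
    (hsw : τ s w = mult k m • w) :
    ∃ F : (α → k) →ₗ[k] V,
      (∀ (g : G) (f : α → k), ∑ x, f x = 0 → F (Cfsg.permRep k G α g f) = τ g (F f)) ∧
      F (Pi.single (h.pt 1) 1 - Pi.single (h.pt 0) 1) - (e : k) • w ∈ LinearMap.range (τ u - 1) := by
  classical
  have hP := (Fact.out : p.Prime)
  set P := Cfsg.permRep k G α with hPdef
  set R := LinearMap.range (τ u - 1) with hR
  let ι := ZMod.castHom (dvd_refl p) k
  let wc : ZMod p → V := fun c => ∑ i ∈ range c.val, (τ u ^ i) w
  have hwc : ∀ n : ℕ, n ≤ p → ∑ i ∈ range n, (τ u ^ i) w = wc (n : ZMod p) := by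
    intro n hn
    rcases hn.lt_or_eq with h1 | h1
    · simp only [wc, ZMod.val_natCast, Nat.mod_eq_of_lt h1]
    · subst h1
      rw [hN]
      simp [wc]
  have hwstep : ∀ c : ZMod p, wc (c + 1) = w + τ u (wc c) := fun c => by
    have h1 := hwc (c.val + 1) (ZMod.val_lt c)
    rw [Nat.cast_succ, ZMod.natCast_zmod_val] at h1
    rw [← h1, Finset.sum_range_succ', map_sum, pow_zero, Module.End.one_apply, add_comm]
    congr 1
    exact Finset.sum_congr rfl fun i _ => by rw [pow_succ', Module.End.mul_apply]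
  have hwmod : ∀ c : ZMod p, wc c - ι c • w ∈ R := fun c => by
    have h1 : ι c • w = ∑ _i ∈ range c.val, w := by
      rw [Finset.sum_const, Finset.card_range, ← Nat.cast_smul_eq_nsmul k]
      congr 1
      show ι c = (c.val : k)
      conv_lhs => rw [← ZMod.natCast_zmod_val c]
      rw [map_natCast]
    rw [h1]
    show (∑ i ∈ range c.val, (τ u ^ i) w) - _ ∈ R
    rw [← Finset.sum_sub_distrib]
    refine Submodule.sum_mem _ fun i _ => ?_
    have := range_upow_sub_le (u := u) τ i (LinearMap.mem_range_self (τ (u ^ i) - 1) w)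
    rwa [LinearMap.sub_apply, Module.End.one_apply, map_pow] at this
  -- the map on the cycle
  let f₀ : (α → k) →ₗ[k] V := ∑ c : ZMod p, (LinearMap.proj (h.pt c)).smulRight (wc c)
  have hf₀ : ∀ f : α → k, f₀ f = ∑ c : ZMod p, f (h.pt c) • wc c := fun f => by
    simp [f₀, LinearMap.sum_apply]
  have hsumpt : ∀ f : α → k, ∑ c : ZMod p, f (h.pt c) = ∑ x, f x := fun f =>
    (Equiv.ofBijective _ h.bij).sum_comp f
  have hinv : ∀ c, u⁻¹ • h.pt c = h.pt (c - 1) := fun c => by
    rw [inv_smul_eq_iff, h.u_smul_pt, sub_add_cancel]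
  have hf₀u : ∀ f : α → k, ∑ x, f x = 0 → f₀ (P u f) = τ u (f₀ f) := by
    intro f hf
    rw [hf₀, hf₀, map_sum]
    simp only [map_smul, hPdef, CfsgLib.Perm.permRep_apply, hinv]
    rw [← Equiv.sum_comp (Equiv.addRight (1 : ZMod p))]
    simp only [Equiv.coe_addRight, add_sub_cancel_right, hwstep, smul_add]
    rw [Finset.sum_add_distrib, ← Finset.sum_smul, hsumpt, hf, zero_smul, zero_add]
  have hsum0 : ∀ (g : G) (f : α → k), ∑ x, f x = 0 → ∑ x, P g f x = 0 := fun g f hf => by
    rw [hPdef, CfsgLib.Perm.sum_permRep, hf]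
  have hf₀n : ∀ (n : ℕ) (f : α → k), ∑ x, f x = 0 → f₀ (P (u ^ n) f) = τ (u ^ n) (f₀ f) := by
    intro n f hf
    induction n with
    | zero => simp
    | succ n ih =>
      rw [pow_succ', map_mul, Module.End.mul_apply, hf₀u _ (hsum0 _ f hf), ih, map_mul, Module.End.mul_apply]
  let φ : G → ((α → k) →ₗ[k] V) := fun g => (τ g).comp (f₀.comp (P g⁻¹))
  have hφ : ∀ (g : G) (n : ℕ) (f : α → k), ∑ x, f x = 0 → φ (g * u ^ n) f = φ g f := by
    intro g n f hf
    simp only [φ, LinearMap.comp_apply]
    rw [map_mul, Module.End.mul_apply, ← hf₀n n _ (hsum0 _ f hf), ← Module.End.mul_apply (P (u ^ n)),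
      ← map_mul, mul_inv_rev, mul_inv_cancel_left]
  set Z := Subgroup.zpowers u with hZ
  haveI := Fintype.ofFinite (G ⧸ Z)
  have hout : ∀ (g : G) (x : G ⧸ Z), ((g : G) : G ⧸ Z) = x → ∀ f : α → k, ∑ y, f y = 0 → φ x.out f = φ g f := by
    intro g x hx f hf
    have h1 : (QuotientGroup.mk x.out : G ⧸ Z) = QuotientGroup.mk g := by rw [QuotientGroup.out_eq', hx]
    rw [QuotientGroup.eq] at h1
    obtain ⟨n, hn⟩ := (mem_powers_iff_mem_zpowers).2 h1
    have h2 : g = x.out * u ^ n := by
      rw [show u ^ n = x.out⁻¹ * g from hn, mul_inv_cancel_left]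
    rw [h2, hφ _ _ f hf]
  have hmk : ∀ (g : G) (x : G ⧸ Z), ((g * x.out : G) : G ⧸ Z) = g • x := fun g x => by
    conv_rhs => rw [← QuotientGroup.out_eq' x]
    rfl
  let F : (α → k) →ₗ[k] V := ∑ x : G ⧸ Z, φ x.out
  refine ⟨F, fun g f hf => ?_, ?_⟩
  · simp only [F, LinearMap.sum_apply, map_sum]
    rw [← Equiv.sum_comp (MulAction.toPerm (α := G) (β := G ⧸ Z) g)]
    refine Finset.sum_congr rfl fun x _ => ?_
    rw [hout (g * x.out) (MulAction.toPerm g x) (hmk g x) _ (hsum0 g f hf)]
    simp only [φ, LinearMap.comp_apply]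
    rw [← Module.End.mul_apply (P _) (P g), ← map_mul, mul_inv_rev, inv_mul_cancel_right, map_mul,
      Module.End.mul_apply]
  set y₀ : α → k := Pi.single (h.pt 1) 1 - Pi.single (h.pt 0) 1 with hy₀
  have hy₀0 : ∑ x, y₀ x = 0 := by
    simp [hy₀, Finset.sum_sub_distrib]
  simp only [F, LinearMap.sum_apply]
  rw [← Finset.sum_filter_add_sum_filter_not univ (fun x : G ⧸ Z => u • x = x)]
  -- free orbits
  have hfree : R.mkQ (∑ x ∈ univ.filter (fun x : G ⧸ Z => ¬ u • x = x), φ x.out y₀) = 0 := by
    rw [map_sum]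
    refine sum_free_orbits hP h.ord_u _ (fun x hx => ?_) (fun x hx => (mem_filter.1 hx).2) _ fun x _ => ?_
    · simp only [mem_filter, mem_univ, true_and] at hx ⊢
      exact fun h1 => hx (MulAction.injective u h1)
    have h1 : ∀ c : ℕ, R.mkQ (φ (u ^ c • x).out y₀) = R.mkQ (φ x.out (P (u ^ c)⁻¹ y₀)) := by
      intro c
      rw [hout (u ^ c * x.out) (u ^ c • x) (hmk (u ^ c) x) y₀ hy₀0]
      simp only [φ, LinearMap.comp_apply]
      rw [map_mul, Module.End.mul_apply, mul_inv_rev, map_mul, Module.End.mul_apply,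
        ← sub_eq_zero, ← map_sub, Submodule.mkQ_apply, Submodule.Quotient.mk_eq_zero]
      exact range_upow_sub_le (u := u) τ c ⟨_, by rw [LinearMap.sub_apply, Module.End.one_apply]⟩
    simp only [h1]
    rw [← map_sum R.mkQ, ← map_sum (φ x.out)]
    have h2 : ∑ c ∈ range p, P (u ^ c)⁻¹ y₀ = 0 := by
      funext z
      obtain ⟨d, rfl⟩ := h.pt_surjective z
      simp only [Finset.sum_apply, hPdef, CfsgLib.Perm.permRep_apply, inv_inv, Pi.zero_apply]
      have h3 : ∑ c : ZMod p, y₀ (h.pt (c + d)) = ∑ c ∈ range p, y₀ (u ^ c • h.pt d) := by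
        refine Finset.sum_bij (fun b _ => b.val) (fun b _ => Finset.mem_range.2 (ZMod.val_lt b))
          (fun a _ b _ hab => ZMod.val_injective p hab)
          (fun c hc => ⟨(c : ZMod p), mem_univ _, by rw [ZMod.val_natCast, Nat.mod_eq_of_lt (Finset.mem_range.1 hc)]⟩)
          (fun b _ => by rw [h.upow_smul_pt])
      have h4 := (Equiv.sum_comp (Equiv.addRight d) (fun c => y₀ (h.pt c))).trans (hsumpt y₀)
      simp only [Equiv.coe_addRight] at h4
      rw [← h3, h4, hy₀0]
    rw [h2, map_zero, map_zero]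
  -- fixed cosets
  have hfix : R.mkQ (∑ x ∈ univ.filter (fun x : G ⧸ Z => u • x = x), φ x.out y₀) = (e : k) • R.mkQ w := by
    have hterm : ∀ i : ℕ, R.mkQ (φ (s ^ i) y₀) = R.mkQ w := by
      intro i
      obtain ⟨c, hc⟩ : ∃ c : ZMod p, m ^ i * c = 1 := ⟨(m ^ i)⁻¹, mul_inv_cancel₀ (pow_ne_zero _ h.m_ne_zero)⟩
      have h1 : P (s ^ i)⁻¹ y₀ = Pi.single (h.pt c) 1 - Pi.single (h.pt 0) 1 := by
        have e1 : (s ^ i)⁻¹ • h.pt 1 = h.pt c := by rw [inv_smul_eq_iff, h.spow_smul_pt, hc]
        have e0 : (s ^ i)⁻¹ • h.pt 0 = h.pt 0 := by rw [inv_smul_eq_iff, h.spow_smul_pt, mul_zero]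
        rw [hy₀, map_sub, hPdef, CfsgLib.Perm.permRep_single, CfsgLib.Perm.permRep_single, e1, e0]
      have h2 : f₀ (Pi.single (h.pt c) 1 - Pi.single (h.pt 0) 1) = wc c := by
        have : ∀ d, f₀ (Pi.single (h.pt d) 1) = wc d := fun d => by
          rw [hf₀, Finset.sum_eq_single d (fun b _ hb => by
            rw [Pi.single_eq_of_ne (fun h' => hb (h.pt_injective h')), zero_smul]) (by simp)]
          simp
        rw [map_sub, this, this, show wc 0 = 0 by simp [wc], sub_zero]
      have h3 : τ (s ^ i) (ι c • w) = w := by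
        rw [map_smul]
        have h4 : ∀ j : ℕ, τ (s ^ j) w = mult k m ^ j • w := fun j => by
          induction j with
          | zero => simp
          | succ j ih => rw [pow_succ', map_mul, Module.End.mul_apply, ih, map_smul, hsw, smul_smul, ← pow_succ]
        rw [h4 i, smul_smul, mult, ← map_pow, ← map_mul, mul_comm c, hc, map_one, one_smul]
      rw [← sub_eq_zero, ← map_sub, Submodule.mkQ_apply, Submodule.Quotient.mk_eq_zero]
      simp only [φ, LinearMap.comp_apply, h1, h2]
      conv => arg 2; arg 2; rw [← h3]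
      rw [← map_sub]
      exact h.spow_stable τ i (hwmod c)
    have hset : univ.filter (fun x : G ⧸ Z => u • x = x) = (range e).image fun i : ℕ => ((s ^ i : G) : G ⧸ Z) := by
      ext x
      simp only [mem_filter, mem_univ, true_and, mem_image, Finset.mem_range]
      constructor
      · intro hx
        have hx' : x.out⁻¹ * u * x.out ∈ Z := by
          have h1 : ((u * x.out : G) : G ⧸ Z) = QuotientGroup.mk x.out := by
            rw [hmk, hx, QuotientGroup.out_eq']
          have h2 := QuotientGroup.eq.1 h1.symm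
          rwa [← mul_assoc] at h2
        have hn : x.out⁻¹ ∈ Subgroup.normalizer (Z : Set G) := by
          have hle : Z.map (MulAut.conj x.out⁻¹).toMonoidHom ≤ Z := by
            rintro _ ⟨y, hy, rfl⟩
            obtain ⟨n, rfl⟩ := Subgroup.mem_zpowers_iff.1 hy
            rw [map_zpow]
            refine zpow_mem ?_ n
            simpa [MulAut.conj_apply] using hx'
          have heq := Subgroup.eq_of_le_of_card_ge hle
            (by rw [Subgroup.card_map_of_injective (MulAut.conj x.out⁻¹).injective])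
          rw [Subgroup.mem_normalizer_iff]
          intro y
          constructor
          · intro hy
            exact hle ⟨y, hy, rfl⟩
          · intro hy
            have hy' : MulAut.conj x.out⁻¹ y ∈ Z.map (MulAut.conj x.out⁻¹).toMonoidHom := by
              rw [heq]; exact hy
            obtain ⟨z, hz, hzy⟩ := hy'
            exact (MulAut.conj x.out⁻¹).injective hzy ▸ hz
        obtain ⟨i, j, hij⟩ := h.mem_normalizer x.out (by simpa using inv_mem hn)
        refine ⟨i % e, Nat.mod_lt _ h.e_pos, ?_⟩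
        rw [← h.ord_s, pow_mod_orderOf]
        conv_rhs => rw [← QuotientGroup.out_eq' x]
        rw [QuotientGroup.eq, hij, inv_mul_cancel_left]
        exact Subgroup.npow_mem_zpowers u j
      · rintro ⟨i, -, rfl⟩
        rw [MulAction.Quotient.smul_mk, smul_eq_mul, QuotientGroup.eq]
        have h1 : ∀ (i : ℕ), (s ^ i)⁻¹ * u * s ^ i ∈ Z := by
          intro i
          induction i with
          | zero => rw [pow_zero, inv_one, one_mul, mul_one]; exact Subgroup.mem_zpowers u
          | succ i ih =>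
            obtain ⟨n, hn⟩ := (mem_powers_iff_mem_zpowers).2 ih
            have hs1 : s⁻¹ * u * s ∈ Z := by
              obtain ⟨d, hd⟩ : ∃ d : ZMod p, m * d = 1 := ⟨m⁻¹, mul_inv_cancel₀ h.m_ne_zero⟩
              have := h.s_upow d
              rw [hd, ZMod.val_one, pow_one] at this
              rw [mul_assoc, ← this, inv_mul_cancel_left]
              exact Subgroup.npow_mem_zpowers u _
            have : (s ^ (i + 1))⁻¹ * u * s ^ (i + 1) = s⁻¹ * u ^ n * s := by
              rw [show u ^ n = (s ^ i)⁻¹ * u * s ^ i from hn, pow_succ]; group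
            rw [this, show s⁻¹ * u ^ n * s = (s⁻¹ * u * s) ^ n by
              simpa [MulAut.conj_apply] using map_pow (MulAut.conj s⁻¹) u n]
            exact pow_mem hs1 n
        have := inv_mem (h1 i)
        simpa [mul_assoc] using this
    have hinj : Set.InjOn (fun i : ℕ => ((s ^ i : G) : G ⧸ Z)) (range e : Set ℕ) := by
      suffices key : ∀ a b : ℕ, a ≤ b → b < e → ((s ^ a : G) : G ⧸ Z) = (s ^ b : G) → a = b by
        intro a ha b hb hab
        simp only [Finset.coe_range, Set.mem_Iio] at ha hb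
        rcases le_total a b with h1 | h1
        · exact key a b h1 hb hab
        · exact (key b a h1 ha hab.symm).symm
      intro a b hle hb hab
      obtain ⟨d, rfl⟩ := Nat.exists_eq_add_of_le hle
      rw [QuotientGroup.eq, pow_add, inv_mul_cancel_left] at hab
      obtain ⟨n, hn⟩ := (mem_powers_iff_mem_zpowers).2 hab
      have hn' : u ^ n = s ^ d := hn
      have h1 : s ^ d • h.pt 0 = h.pt 0 := by rw [h.spow_smul_pt, mul_zero]
      rw [← hn', h.upow n, h.upow_smul_pt, add_zero] at h1
      have h2 := h.pt_injective h1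
      have h3 : s ^ d = 1 := by rw [← hn', h.upow n, h2, ZMod.val_zero, pow_zero]
      rcases Nat.eq_zero_or_pos d with rfl | hd
      · rfl
      · exact absurd (Nat.le_of_dvd hd (h.ord_s ▸ orderOf_dvd_of_pow_eq_one h3)) (by omega)
    rw [hset, Finset.sum_image hinj, map_sum]
    have : ∀ i ∈ range e, R.mkQ (φ ((s ^ i : G) : G ⧸ Z).out y₀) = R.mkQ w := fun i _ => by
      rw [hout (s ^ i) _ rfl y₀ hy₀0, hterm]
    rw [Finset.sum_congr rfl this, Finset.sum_const, Finset.card_range, Nat.cast_smul_eq_nsmul]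
  rw [← Submodule.Quotient.mk_eq_zero, ← Submodule.mkQ_apply, map_sub, map_add, hfree, hfix, map_smul,
    add_zero, sub_self]

end Cfg

end CfsgLib.PrimeDegreeTI
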