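import Cfsg.Agent.Lib.Perm.PrimeSylow
import Cfsg.Agent.Lib.PrimeDegreeTI.Cfg
import Cfsg.Agent.Lib.PrimeDegreeTI.Complement
import Cfsg.Agent.Lib.Chars.DefectZero
import Cfsg.Agent.Lib.Chars.Linear
import Cfsg.Agent.Lib.CharApps.Basic

/-!
# Groups of prime degree with a unique character of that degree
-/

set_option autoImplicit false
set_option linter.style.haveILetI false
set_option linter.unusedSectionVars false

namespace CfsgLib.PrimeDegreeTI

open MulAction CfsgLib.Perm
open scoped commutatorElement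

variable {α : Type*} [Fintype α] [DecidableEq α] {p : ℕ} [Fact p.Prime] {G : Subgroup (Equiv.Perm α)}

/-- The facts that do not depend on the order of `E`. -/
structure Data (G : Subgroup (Equiv.Perm α)) (p : ℕ) [Fact p.Prime] (E : Subgroup G) (u s : G) (a₀ : α)
    (m : ZMod p) (e t : ℕ) : Prop where
  gen : Subgroup.zpowers s = E
  ord_u : orderOf u = p
  bij : Function.Bijective fun c : ZMod p => u ^ c.val • a₀
  fix : s • a₀ = a₀
  conj_u : s * u * s⁻¹ = u ^ m.val
  ord_s : orderOf s = e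
  ord_m : orderOf m = e
  card_eq : e * t + 1 = p
  two_le : 2 ≤ e
  five_le : 5 ≤ p
  even_t : Even t
  mem_normalizer : ∀ g ∈ Subgroup.normalizer (Subgroup.zpowers u : Set G), ∃ i j : ℕ, g = s ^ i * u ^ j
  perfect : commutator G = ⊤
  simple : IsSimpleGroup G
  noncomm : ∃ x y : G, x * y ≠ y * x
  value : ∃ χ : Cfsg.IrrCharacter G, (χ : G → ℂ) 1 = p ∧ ∀ j : ℕ, ¬ e ∣ j → (χ : G → ℂ) (s ^ j) = 1

/-- The exponent of a conjugate of the generator. -/
theorem exists_exponent {u : G} (hu : orderOf u = p) {g : G}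
    (hg : g ∈ Subgroup.normalizer (Subgroup.zpowers u : Set G)) :
    ∃ k : ZMod p, g * u * g⁻¹ = u ^ k.val := by
  obtain ⟨k, hk⟩ := (mem_powers_iff_mem_zpowers).2
    ((Subgroup.mem_normalizer_iff.1 hg u).1 (Subgroup.mem_zpowers u))
  refine ⟨k, ?_⟩
  rw [ZMod.val_natCast, ← hu, pow_mod_orderOf]
  exact hk.symm

set_option maxHeartbeats 1600000 in
theorem exists_data (hα : Fintype.card α = p) [IsPretransitive G α]
    (huniq : ∃! χ : Cfsg.IrrCharacter G, Cfsg.charDegree (χ : G → ℂ) = p)
    (P : Sylow p G) (E : Subgroup G)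
    (hPE : (P : Subgroup G) ⊔ E = Subgroup.normalizer ((P : Subgroup G) : Set G))
    (hPE' : (P : Subgroup G) ⊓ E = ⊥)
    (hNE : Nat.card (Subgroup.normalizer (E : Set G)) = 2 * Nat.card E) :
    ∃ (u s : G) (a₀ : α) (m : ZMod p) (e t : ℕ), Data G p E u s a₀ m e t := by
  classical
  have hp := (Fact.out : p.Prime)
  haveI := Fintype.ofFinite G
  have hPcard := card_sylow_eq_prime hα P
  have hnt : Nontrivial (P : Subgroup G) :=
    Finite.one_lt_card_iff_nontrivial.1 (by rw [hPcard]; exact hp.one_lt)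
  obtain ⟨⟨u, huP⟩, hu1⟩ := exists_ne (1 : (P : Subgroup G))
  have hu : orderOf u = p := by
    have hd : orderOf (⟨u, huP⟩ : (P : Subgroup G)) ∣ p := by
      conv_rhs => rw [← hPcard]
      exact orderOf_dvd_natCard _
    rw [Subgroup.orderOf_mk] at hd
    exact ((Nat.dvd_prime hp).1 hd).resolve_left (fun h => hu1 (Subtype.ext (orderOf_eq_one_iff.1 h)))
  have hz : Subgroup.zpowers u = (P : Subgroup G) :=
    Subgroup.eq_of_le_of_card_ge (Subgroup.zpowers_le.2 huP) (by rw [Nat.card_zpowers, hu, hPcard])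
  rw [← hz] at hPE hPE'
  set N := Subgroup.normalizer (Subgroup.zpowers u : Set G) with hN
  have hEN : E ≤ N := le_sup_right.trans hPE.le
  -- the exponent map
  choose κ hκ using fun g : N => exists_exponent hu g.2
  have hupow : ∀ (a b : ℕ), u ^ a = u ^ b ↔ (a : ZMod p) = b := fun a b => by
    rw [pow_eq_pow_iff_modEq, hu, ZMod.natCast_eq_natCast_iff]
  have hκu : ∀ (g : N) (k : ZMod p), (g : G) * u * (g : G)⁻¹ = u ^ k.val → κ g = k := fun g k hk => by
    have := (hupow _ _).1 ((hκ g).symm.trans hk)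
    rwa [ZMod.natCast_zmod_val, ZMod.natCast_zmod_val] at this
  let κhom : E →* ZMod p :=
    { toFun := fun g => κ ⟨g, hEN g.2⟩
      map_one' := hκu _ 1 (by simp [ZMod.val_one])
      map_mul' := fun g h => hκu _ _ (by
        have h1 := hκ ⟨g, hEN g.2⟩
        have h2 := hκ ⟨h, hEN h.2⟩
        simp only at h1 h2
        show ((g : G) * h) * u * ((g : G) * h)⁻¹ = _
        rw [show ((g : G) * h) * u * ((g : G) * h)⁻¹ = (g : G) * ((h : G) * u * (h : G)⁻¹) * (g : G)⁻¹ by group,
          h2, ← conj_pow, h1, ← pow_mul, hupow, Nat.cast_mul, ZMod.natCast_zmod_val, ZMod.natCast_zmod_val,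
          ZMod.natCast_zmod_val]) }
  have hne0 : Nonempty α := Fintype.card_pos_iff.1 (by rw [hα]; exact hp.pos)
  obtain ⟨a⟩ := hne0
  obtain ⟨c₀, hc₀, -⟩ := exists_isCoord hα hu a
  have haff : ∀ g : N, ∀ j : ZMod p, (g : G) • c₀ j = c₀ (κ g * j + c₀.symm ((g : G) • c₀ 0)) := by
    intro g j
    have := affine_of_conj_eq_pow hc₀ (hκ g) j
    rwa [ZMod.natCast_zmod_val] at this
  have hinj : Function.Injective κhom := by
    refine (injective_iff_map_eq_one κhom).2 fun g hg => ?_
    have hg1 : κ ⟨g, hEN g.2⟩ = 1 := hg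
    have hb : (g : G) = u ^ (c₀.symm ((g : G) • c₀ 0)).val := by
      refine Subtype.ext (Equiv.ext fun x => ?_)
      obtain ⟨j, rfl⟩ := c₀.surjective x
      change (g : G) • c₀ j = u ^ (c₀.symm ((g : G) • c₀ 0)).val • c₀ j
      rw [hc₀.pow_smul, ZMod.natCast_zmod_val, haff ⟨g, hEN g.2⟩ j, hg1, one_mul]
    have hmem : (g : G) ∈ Subgroup.zpowers u ⊓ E :=
      ⟨by rw [hb]; exact Subgroup.npow_mem_zpowers _ _, g.2⟩
    rw [hPE', Subgroup.mem_bot] at hmem
    exact Subtype.ext hmem
  haveI : IsCyclic E := isCyclic_of_injective_ringHom κhom hinj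
  obtain ⟨⟨s, hsE⟩, hsgen⟩ := IsCyclic.exists_generator (α := E)
  have hgen : Subgroup.zpowers s = E := by
    refine le_antisymm (Subgroup.zpowers_le.2 hsE) fun x hx => ?_
    obtain ⟨i, hi⟩ := Subgroup.mem_zpowers_iff.1 (hsgen ⟨x, hx⟩)
    exact ⟨i, congrArg Subtype.val hi⟩
  obtain ⟨m, hm⟩ : ∃ m, m = κhom ⟨s, hsE⟩ := ⟨_, rfl⟩
  obtain ⟨e, he⟩ : ∃ e, e = orderOf s := ⟨_, rfl⟩
  have hEcard : Nat.card E = e := by rw [he, ← Nat.card_zpowers, hgen]
  have hme : orderOf m = e := by rw [hm, orderOf_injective κhom hinj, Subgroup.orderOf_mk, he]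
  have hsu : s * u * s⁻¹ = u ^ m.val := by rw [hm]; exact hκ ⟨s, hEN hsE⟩
  have he0 : 0 < e := he ▸ orderOf_pos s
  -- the order is not one
  obtain ⟨χ, hχ, hχu⟩ := huniq
  have hχ1 : (χ : G → ℂ) 1 = (p : ℕ) := by rw [CfsgLib.CharApps.deg_eq, hχ]
  have hge2 : 2 ≤ e := by
    by_contra hlt
    have he1 : e = 1 := by omega
    have hEbot : E = ⊥ := Subgroup.eq_bot_of_card_eq E (by rw [hEcard, he1])
    have hnorm : Subgroup.normalizer (E : Set G) = ⊤ := by
      rw [eq_top_iff]
      intro g _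
      rw [Subgroup.mem_normalizer_iff]
      intro x
      rw [hEbot, Subgroup.mem_bot, Subgroup.mem_bot, conj_eq_one_iff]
    rw [hnorm, Subgroup.card_top, hEcard, he1, mul_one] at hNE
    haveI := Chars.irrFintype G
    have hsum : ∑ ψ : Cfsg.IrrCharacter G, Cfsg.charDegree (ψ : G → ℂ) ^ 2 = Nat.card G := by
      have := Chars.sum_degree_sq (G := G)
      simp only [CfsgLib.CharApps.deg_eq] at this
      exact_mod_cast this
    have h2 := Finset.single_le_sum (f := fun ψ : Cfsg.IrrCharacter G => Cfsg.charDegree (ψ : G → ℂ) ^ 2)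
      (fun _ _ => Nat.zero_le _) (Finset.mem_univ χ)
    rw [hsum, hNE] at h2
    change Cfsg.charDegree (χ : G → ℂ) ^ 2 ≤ 2 at h2
    rw [hχ] at h2
    have := Nat.pow_le_pow_left hp.two_le 2
    omega
  have hm1 : m ≠ 1 := fun h => by rw [h, orderOf_one] at hme; omega
  obtain ⟨t, het⟩ : ∃ t, e * t + 1 = p := by
    have hm0 : m ≠ 0 := fun h => by
      have h1 := pow_orderOf_eq_one m
      rw [hme, h, zero_pow he0.ne'] at h1
      exact zero_ne_one h1
    have hd : e ∣ p - 1 := hme ▸ orderOf_dvd_of_pow_eq_one (ZMod.pow_card_sub_one_eq_one hm0)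
    obtain ⟨t, ht⟩ := hd
    exact ⟨t, by have := hp.one_le; omega⟩
  have hppe : ¬ p ∣ e := fun hd => by
    have := Nat.le_of_dvd he0 hd
    rcases Nat.eq_zero_or_pos t with h0 | h0
    · rw [h0, mul_zero] at het; exact hp.one_lt.ne het
    · have := Nat.le_mul_of_pos_right e h0
      omega
  -- the fixed point
  obtain ⟨B, hB⟩ : ∃ B, B = c₀.symm (s • c₀ 0) := ⟨_, rfl⟩
  have hsaff : ∀ j : ZMod p, s • c₀ j = c₀ (m * j + B) := fun j => by
    rw [hB, hm]; exact haff ⟨s, hEN hsE⟩ j
  obtain ⟨c, hc⟩ : ∃ c : ZMod p, m * c + B = c := ⟨B / (1 - m), by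
    have h1 : (1 : ZMod p) - m ≠ 0 := sub_ne_zero.2 (Ne.symm hm1)
    field_simp
    ring⟩
  have hbij : Function.Bijective fun d : ZMod p => u ^ d.val • c₀ c := by
    have h1 : (fun d : ZMod p => u ^ d.val • c₀ c) = fun d => c₀ (c + d) := funext fun d => by
      rw [hc₀.pow_smul, ZMod.natCast_zmod_val]
    rw [h1]
    exact c₀.bijective.comp (Equiv.addLeft c).bijective
  have hfix : s • c₀ c = c₀ c := by rw [hsaff, hc]
  -- decomposition of the normaliser
  have hconjn : ∀ (i j : ℕ), ∃ j' : ℕ, u ^ j * s ^ i = s ^ i * u ^ j' := by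
    intro i j
    have hmem : (s ^ i)⁻¹ * u ^ j * (s ^ i)⁻¹⁻¹ ∈ Subgroup.zpowers u :=
      (Subgroup.mem_normalizer_iff.1 (inv_mem (pow_mem (hEN hsE) i)) _).1 (Subgroup.npow_mem_zpowers u j)
    obtain ⟨j', hj'⟩ := (mem_powers_iff_mem_zpowers).2 hmem
    refine ⟨j', ?_⟩
    rw [show u ^ j' = (s ^ i)⁻¹ * u ^ j * (s ^ i)⁻¹⁻¹ from hj']
    group
  have hNdec : ∀ g ∈ N, ∃ i j : ℕ, g = s ^ i * u ^ j := by
    intro g hg
    let M : Submonoid G :=
      { carrier := {g | ∃ i j : ℕ, g = s ^ i * u ^ j}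
        one_mem' := ⟨0, 0, by simp⟩
        mul_mem' := by
          rintro _ _ ⟨i, j, rfl⟩ ⟨i', j', rfl⟩
          obtain ⟨l, hl⟩ := hconjn i' j
          exact ⟨i + i', l + j', by
            rw [pow_add, pow_add, mul_assoc, ← mul_assoc (u ^ j), hl]; group⟩ }
    let M' : Subgroup G :=
      { toSubmonoid := M
        inv_mem' := by
          intro x hx
          obtain ⟨n, hn⟩ := (mem_powers_iff_mem_zpowers).2 (inv_mem (Subgroup.mem_zpowers x))
          exact hn ▸ Submonoid.pow_mem M hx n }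
    have hle : Subgroup.zpowers u ⊔ E ≤ M' := by
      refine sup_le (Subgroup.zpowers_le.2 ⟨0, 1, by simp⟩) ?_
      rw [← hgen, Subgroup.zpowers_le]
      exact ⟨1, 0, by simp⟩
    exact hle (hPE.symm ▸ hg)
  -- not solvable
  have hns : ¬ Group.IsSolvable G := by
    intro hsolv
    have hnall : ∀ g : G, g ∈ N := by
      intro g
      obtain ⟨A, B', hg⟩ := affine_of_isSolvable hα hsolv hu hc₀ g
      have h1 : g * u * g⁻¹ = u ^ A.val := by
        rw [mul_inv_eq_iff_eq_mul]
        refine Subtype.ext (Equiv.ext fun x => ?_)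
        obtain ⟨j, rfl⟩ := c₀.surjective x
        change (g * u) • c₀ j = (u ^ A.val * g) • c₀ j
        rw [mul_smul, mul_smul, hc₀, hg, hg, hc₀.pow_smul, ZMod.natCast_zmod_val]
        congr 1; ring
      have hle : (Subgroup.zpowers u).map (MulAut.conj g).toMonoidHom ≤ Subgroup.zpowers u := by
        rintro _ ⟨y, hy, rfl⟩
        obtain ⟨q, rfl⟩ := Subgroup.mem_zpowers_iff.1 hy
        rw [map_zpow]
        refine zpow_mem ?_ q
        show g * u * g⁻¹ ∈ _
        rw [h1]
        exact Subgroup.npow_mem_zpowers u _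
      have heq := Subgroup.eq_of_le_of_card_ge hle
        (by rw [Subgroup.card_map_of_injective (MulAut.conj g).injective])
      rw [hN, Subgroup.mem_normalizer_iff]
      intro y
      constructor
      · exact fun hy => hle ⟨y, hy, rfl⟩
      · intro hy
        have hy' : MulAut.conj g y ∈ (Subgroup.zpowers u).map (MulAut.conj g).toMonoidHom := by
          rw [heq]; exact hy
        obtain ⟨z, hz', hzy⟩ := hy'
        exact (MulAut.conj g).injective hzy ▸ hz'
    have hsurj : Function.Surjective fun ij : Fin e × Fin p => s ^ (ij.1 : ℕ) * u ^ (ij.2 : ℕ) := by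
      intro g
      obtain ⟨i, j, rfl⟩ := hNdec g (hnall g)
      refine ⟨(⟨i % e, Nat.mod_lt _ he0⟩, ⟨j % p, Nat.mod_lt _ hp.pos⟩), ?_⟩
      simp only
      rw [he, pow_mod_orderOf]
      conv_lhs => rw [← hu, pow_mod_orderOf]
    have hle := Nat.card_le_card_of_surjective _ hsurj
    rw [Nat.card_prod, Nat.card_fin, Nat.card_fin] at hle
    have hpe : p * e ∣ Nat.card G := Nat.Coprime.mul_dvd_of_dvd_of_dvd
      ((Nat.Prime.coprime_iff_not_dvd hp).2 hppe) (hu ▸ orderOf_dvd_natCard u)
      (hEcard ▸ Subgroup.card_subgroup_dvd_card E)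
    have hG : Nat.card G = p * e := le_antisymm (by rw [mul_comm]; exact hle) (Nat.le_of_dvd Nat.card_pos hpe)
    have h2 : 2 * e ∣ p * e := by
      rw [← hG, ← hEcard, ← hNE]; exact Subgroup.card_subgroup_dvd_card _
    have h3 : 2 ∣ p := Nat.dvd_of_mul_dvd_mul_right he0 h2
    rw [Nat.prime_dvd_prime_iff_eq Nat.prime_two hp] at h3
    rcases Nat.eq_zero_or_pos t with h0 | h0
    · rw [h0, mul_zero] at het; omega
    · have := Nat.le_mul_of_pos_right e h0
      omega
  have hp5 := five_le hα hns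
  -- normal subgroups contain `u`
  have hmemK : ∀ K : Subgroup G, K.Normal → K ≠ ⊥ → u ∈ K := by
    intro K hKn hK
    haveI := hKn
    haveI := normal_isPretransitive hα K hK
    have h1 : p ∣ Nat.card K := by
      rw [← Subgroup.index_mul_card (stabilizer K (c₀ c)), index_stabilizer_of_transitive,
        Nat.card_eq_fintype_card, hα]
      exact dvd_mul_right _ _
    have h2 : ¬ p ∣ K.index := fun hd => not_sq_dvd (G := G) hα (by
      rw [← K.card_mul_index, pow_two]; exact mul_dvd_mul h1 hd)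
    have h4 : orderOf (QuotientGroup.mk' K u) ∣ Nat.gcd p K.index :=
      Nat.dvd_gcd (by
        conv_rhs => rw [← hu]
        exact orderOf_map_dvd _ u) (orderOf_dvd_natCard (QuotientGroup.mk' K u))
    rw [(hp.coprime_iff_not_dvd.2 h2).gcd_eq_one, Nat.dvd_one, orderOf_eq_one_iff] at h4
    exact (QuotientGroup.eq_one_iff u).1 h4
  have hFrat : ∀ K : Subgroup G, K.Normal → u ∈ K → s ∈ K → K = ⊤ := by
    intro K hKn huK hsK
    haveI := hKn
    have hPK : (P : Subgroup G) ≤ K := hz ▸ Subgroup.zpowers_le.2 huK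
    have h1 := Sylow.normalizer_sup_eq_top' P hPK
    rw [show (P : Set G) = (Subgroup.zpowers u : Set G) from by rw [hz]; rfl] at h1
    have h2 : N ≤ K := fun g hg => by
      obtain ⟨i, j, rfl⟩ := hNdec g hg
      exact mul_mem (pow_mem hsK i) (pow_mem huK j)
    rw [eq_top_iff, ← h1]
    exact sup_le h2 le_rfl
  have hG'ne : commutator G ≠ ⊥ := fun h => hns (Group.isSolvable_of_comm fun x y => by
    have h1 : ⁅x, y⁆ ∈ commutator G :=
      Subgroup.commutator_mem_commutator (Subgroup.mem_top x) (Subgroup.mem_top y)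
    rw [h, Subgroup.mem_bot, commutatorElement_eq_one_iff_mul_comm] at h1
    exact h1)
  have huG' : u ∈ commutator G := hmemK _ inferInstance hG'ne
  -- values
  have hsq := not_sq_dvd (G := G) hα
  have hvan : ∀ j : ℕ, ¬ p ∣ j → (χ : G → ℂ) (u ^ j) = 0 := by
    intro j hj
    refine Chars.eq_zero_of_dvd_orderOf χ.2 (n := 1) hp hχ1 (by simpa using hsq) (by simp) ?_
    rw [Nat.Coprime.orderOf_pow (by rw [hu]; exact (hp.coprime_iff_not_dvd.2 hj)), hu]
  have hconj : ∀ j c' : ℕ, ¬ e ∣ j → (χ : G → ℂ) (s ^ j * u ^ c') = (χ : G → ℂ) (s ^ j) := by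
    intro j c' hj
    have hsj : ∀ (l : ℕ) (x : ZMod p), s ^ l * u ^ x.val = u ^ (m ^ l * x).val * s ^ l := by
      intro l
      induction l with
      | zero => simp
      | succ l ih =>
        intro x
        have h1 : s * u ^ (m ^ l * x).val = u ^ (m ^ (l + 1) * x).val * s := by
          have : (s * u * s⁻¹) ^ (m ^ l * x).val = u ^ (m ^ (l + 1) * x).val := by
            rw [hsu, ← pow_mul, hupow, Nat.cast_mul, ZMod.natCast_zmod_val, ZMod.natCast_zmod_val,
              ZMod.natCast_zmod_val, pow_succ']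
            ring
          rw [← this, conj_pow]; group
        rw [pow_succ' s, mul_assoc, ih, ← mul_assoc, h1, mul_assoc]
    have hmj : m ^ j ≠ 1 := fun h => hj (hme ▸ orderOf_dvd_of_pow_eq_one h)
    -- conjugate by a power of `u`
    obtain ⟨d, hd⟩ : ∃ d : ZMod p, (1 - m ^ j) * d = m ^ j * (c' : ZMod p) :=
      ⟨_, mul_div_cancel₀ _ (sub_ne_zero.2 (Ne.symm hmj))⟩
    have h2 : u ^ d.val * s ^ j * (u ^ d.val)⁻¹ = s ^ j * u ^ c' := by
      rw [mul_inv_eq_iff_eq_mul]
      have e1 : u ^ c' = u ^ (c' : ZMod p).val := by rw [hupow, ZMod.natCast_zmod_val]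
      rw [e1, hsj, mul_assoc (u ^ _) (s ^ j), hsj, ← mul_assoc, ← pow_add]
      congr 1
      rw [hupow, Nat.cast_add, ZMod.natCast_zmod_val, ZMod.natCast_zmod_val, ZMod.natCast_zmod_val]
      linear_combination hd
    rw [← h2]
    exact Chars.isClassFunction_irr χ _ _
  obtain ⟨ν, hν, hνval⟩ := exists_linear_value hp χ hχ1 hu hvan he.symm (hEN hsE) hconj
  have hperf : commutator G = ⊤ := by
    by_contra hne
    obtain ⟨lam, hlam⟩ := Chars.exists_nontrivial_hom hne
    have hprod : (⟨_, Chars.isIrrCharacter_linear_mul lam χ.2⟩ : Cfsg.IrrCharacter G) = χ := by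
      refine hχu _ ?_
      simp only [Cfsg.charDegree, map_one, Units.val_one, one_mul]
      exact hχ
    have hg : ∀ g, ((lam g : ℂˣ) : ℂ) * (χ : G → ℂ) g = (χ : G → ℂ) g :=
      fun g => congrFun (congrArg Subtype.val hprod) g
    have hs : lam s = 1 := by
      have h1 := hνval 1 (by rw [Nat.dvd_one]; omega)
      rw [pow_one, pow_one] at h1
      have hν0 : ν ≠ 0 := fun h0 => by
        rw [h0, zero_pow he0.ne'] at hν; exact zero_ne_one hν
      have h2 := hg s
      rw [h1] at h2
      exact Units.ext ((mul_eq_right₀ hν0).1 h2)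
    refine hlam (MonoidHom.ker_eq_top_iff.1 (hFrat lam.ker inferInstance ?_ ?_))
    · exact Abelianization.commutator_subset_ker lam huG'
    · exact hs
  have hsimple : IsSimpleGroup G := by
    haveI : Nontrivial G := ⟨⟨u, 1, fun h => by rw [h, orderOf_one] at hu; exact hp.one_lt.ne hu⟩⟩
    refine ⟨fun K hKn => or_iff_not_imp_left.2 fun hK => ?_⟩
    haveI := hKn
    have huK := hmemK K hKn hK
    have hPK : (P : Subgroup G) ≤ K := hz ▸ Subgroup.zpowers_le.2 huK
    have h1 := Sylow.normalizer_sup_eq_top' P hPK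
    rw [show (P : Set G) = (Subgroup.zpowers u : Set G) from by rw [hz]; rfl] at h1
    have hrep : ∀ g : G, ∃ i : ℕ, QuotientGroup.mk' K g = QuotientGroup.mk' K s ^ i := by
      intro g
      have hle : N ⊔ K ≤ (Subgroup.zpowers (QuotientGroup.mk' K s)).comap (QuotientGroup.mk' K) := by
        refine sup_le (fun x hx => ?_) (fun x hx => ?_)
        · obtain ⟨i, j, rfl⟩ := hNdec x hx
          rw [Subgroup.mem_comap, map_mul, map_pow, map_pow,
            show QuotientGroup.mk' K u = 1 from (QuotientGroup.eq_one_iff u).2 huK, one_pow, mul_one]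
          exact Subgroup.npow_mem_zpowers _ i
        · rw [Subgroup.mem_comap, show QuotientGroup.mk' K x = 1 from (QuotientGroup.eq_one_iff x).2 hx]
          exact one_mem _
      obtain ⟨i, hi⟩ := (mem_powers_iff_mem_zpowers).2 (Subgroup.mem_comap.1 (hle (h1.symm ▸ Subgroup.mem_top g)))
      exact ⟨i, hi.symm⟩
    rw [eq_top_iff, ← hperf, commutator_eq_closure, Subgroup.closure_le]
    rintro _ ⟨a, b, rfl⟩
    rw [SetLike.mem_coe, ← QuotientGroup.eq_one_iff]
    obtain ⟨i, hi⟩ := hrep a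
    obtain ⟨j, hj⟩ := hrep b
    show QuotientGroup.mk' K ⁅a, b⁆ = 1
    rw [map_commutatorElement, hi, hj, commutatorElement_eq_one_iff_mul_comm, ← pow_add, ← pow_add, add_comm]
  -- parity
  have heven : Even t := by
    have hsign : Equiv.Perm.sign (s : Equiv.Perm α) = 1 := by
      have hk := Abelianization.commutator_subset_ker ((Equiv.Perm.sign (α := α)).comp G.subtype)
        (hperf ▸ Subgroup.mem_top s)
      exact hk
    set σ : Equiv.Perm α := (s : Equiv.Perm α) with hσ
    have hsmul : ∀ (l : ℕ) (j : ZMod p), (σ ^ l) (c₀ j) = c₀ (m ^ l * (j - c) + c) := by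
      intro l
      induction l with
      | zero => intro j; simp
      | succ l ih =>
        intro j
        rw [pow_succ', Equiv.Perm.mul_apply, ih]
        show s • c₀ _ = _
        rw [hsaff]
        congr 1
        linear_combination hc
    have hfixed : ∀ (l : ℕ) (j : ZMod p), ¬ e ∣ l → (σ ^ l) (c₀ j) = c₀ j → j = c := by
      intro l j hl h1
      rw [hsmul] at h1
      have h2 : (m ^ l - 1) * (j - c) = 0 := by linear_combination c₀.injective h1
      exact sub_eq_zero.1 ((mul_eq_zero.1 h2).resolve_left fun h3 => hl (hme ▸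
        orderOf_dvd_of_pow_eq_one (sub_eq_zero.1 h3)))
    have hsupp : σ.support = Finset.univ.erase (c₀ c) := by
      ext x
      obtain ⟨j, rfl⟩ := c₀.surjective x
      simp only [Equiv.Perm.mem_support, Finset.mem_erase, Finset.mem_univ, and_true, ne_eq,
        c₀.injective.eq_iff]
      refine ⟨fun h1 h2 => h1 ?_, fun h1 h2 => h1 ?_⟩
      · subst h2; exact hfix
      · exact hfixed 1 j (by rw [Nat.dvd_one]; omega) (by rw [pow_one]; exact h2)
    have hall : ∀ n ∈ σ.cycleType, n = e := by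
      intro n hn
      rw [Equiv.Perm.cycleType_def, Multiset.mem_map] at hn
      obtain ⟨f, hf, rfl⟩ := hn
      rw [Finset.mem_val, Equiv.Perm.mem_cycleFactorsFinset_iff] at hf
      obtain ⟨hcyc, hfs⟩ := hf
      have hdvd : f.support.card ∣ e := by
        have h1 : f.support.card ∣ orderOf σ := by
          refine Equiv.Perm.dvd_of_mem_cycleType ?_
          rw [Equiv.Perm.cycleType_def, Multiset.mem_map]
          exact ⟨f, Equiv.Perm.mem_cycleFactorsFinset_iff.2 ⟨hcyc, hfs⟩, rfl⟩
        rwa [hσ, Subgroup.orderOf_coe, ← he] at h1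
      refine Nat.dvd_antisymm hdvd ?_
      by_contra hnd
      obtain ⟨x, hx⟩ : f.support.Nonempty := Finset.card_pos.1 (by have := hcyc.two_le_card_support; omega)
      have hpowf : ∀ l : ℕ, (σ ^ l) x = (f ^ l) x := by
        intro l
        induction l with
        | zero => rfl
        | succ l ih =>
          rw [pow_succ', pow_succ', Equiv.Perm.mul_apply, Equiv.Perm.mul_apply, ih]
          exact (hfs _ (Equiv.Perm.pow_apply_mem_support.2 hx)).symm
      have h1 : (σ ^ f.support.card) x = x := by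
        rw [hpowf, ← hcyc.orderOf, pow_orderOf_eq_one]; rfl
      obtain ⟨j, rfl⟩ := c₀.surjective x
      have h2 := hfixed _ j hnd h1
      subst h2
      have h3 := hfs _ hx
      rw [Equiv.Perm.mem_support, h3] at hx
      exact hx hfix
    have hrep := Multiset.eq_replicate_card.2 hall
    have hsum : σ.cycleType.sum = e * t := by
      rw [Equiv.Perm.sum_cycleType, hsupp, Finset.card_erase_of_mem (Finset.mem_univ _), Finset.card_univ, hα]
      omega
    have hcard : Multiset.card σ.cycleType = t := by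
      rw [hrep, Multiset.sum_replicate, smul_eq_mul, mul_comm] at hsum
      exact Nat.eq_of_mul_eq_mul_left he0 hsum
    rw [Equiv.Perm.sign_of_cycleType, hsum, hcard] at hsign
    have hev : Even (e * t) := by
      rw [show e * t = p - 1 by omega]
      exact Nat.Prime.even_sub_one hp (by omega)
    rw [pow_add, hev.neg_one_pow, one_mul] at hsign
    by_contra hodd
    rw [(Nat.not_even_iff_odd.1 hodd).neg_one_pow] at hsign
    exact absurd hsign (by decide)
  have hν1 : ν = 1 := linear_value_eq_one hperf χ hχ1 he.symm het heven hν hνval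
  refine ⟨u, s, c₀ c, m, e, t, ⟨hgen, hu, hbij, hfix, hsu, he.symm, hme, het, hge2, hp5, heven, hNdec, hperf,
    hsimple, ?_, χ, hχ1, fun j hj => by rw [hνval j hj, hν1, one_pow]⟩⟩
  by_contra hall
  push Not at hall
  exact hns (Group.isSolvable_of_comm hall)

end CfsgLib.PrimeDegreeTI
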