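import Cfsg.Agent.Lib.PrimeDegreeTI.Transfer

/-!
# The outer elements of the normaliser invert the trivial intersection subgroup
-/

set_option autoImplicit false
set_option linter.style.haveILetI false
set_option linter.unusedSectionVars false

namespace CfsgLib.PrimeDegreeTI

open Subgroup

variable {G : Type*} [Group G] [Finite G]

/-- Sylow subgroups of the normaliser are Sylow subgroups when squares fall into a TI subgroup. -/
theorem sylow_of_normalizer {q : ℕ} [hq : Fact q.Prime] (N : Subgroup G) (S : Subgroup G) (hSN : S ≤ N)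
    (hS : IsPGroup q S) (hcard : ¬ q ∣ S.relIndex N)
    (h : ∀ g ∈ normalizer (S : Set G), g ∈ N) : ∃ T : Sylow q G, (T : Subgroup G) = S := by
  obtain ⟨T, hT⟩ := hS.exists_le_sylow
  refine ⟨T, le_antisymm ?_ hT⟩
  by_contra hne
  have hlt : S < (T : Subgroup G) := lt_of_le_of_ne hT fun he => hne he.ge
  haveI := T.isPGroup'.isNilpotent
  have hlt' : S.subgroupOf (T : Subgroup G) < ⊤ := by
    rw [lt_top_iff_ne_top, Ne, subgroupOf_eq_top]
    exact fun hle => hne hle
  have h2 := normalizerCondition_of_isNilpotent (G := (T : Subgroup G)) _ hlt'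
  obtain ⟨g, hgn, hgS⟩ := SetLike.exists_of_lt h2
  have hgN : (g : G) ∈ normalizer (S : Set G) := by
    rw [mem_normalizer_iff]
    intro z
    constructor
    · intro hz
      exact (mem_normalizer_iff.1 hgn ⟨z, hT hz⟩).1 hz
    · intro hz
      have hz' : (g : G) * z * (g : G)⁻¹ ∈ (T : Subgroup G) := hT hz
      have hzT : z ∈ (T : Subgroup G) := by
        have := mul_mem (mul_mem (inv_mem g.2) hz') g.2
        simpa [mul_assoc] using this
      exact (mem_normalizer_iff.1 hgn ⟨z, hzT⟩).2 hz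
  let M : Subgroup G := (T : Subgroup G) ⊓ N
  have hSM : S ≤ M := le_inf hT hSN
  have hMq : IsPGroup q M := T.isPGroup'.to_le inf_le_left
  have hrel : S.relIndex M = 1 := by
    obtain ⟨j, hj⟩ := hMq.index (S.subgroupOf M)
    change S.relIndex M = _ at hj
    rcases j with _ | j
    · simpa using hj
    · exfalso
      refine hcard ?_
      rw [← relIndex_mul_relIndex S M N hSM inf_le_right, hj, pow_succ']
      exact dvd_mul_of_dvd_left (dvd_mul_right _ _) _
  exact hgS (relIndex_eq_one.1 hrel ⟨g.2, h _ hgN⟩)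

variable [IsSimpleGroup G]

theorem outer_inverts (hnc : ∃ x y : G, x * y ≠ y * x) (hperf : commutator G = ⊤) {s : G} {e : ℕ}
    (hse : orderOf s = e)
    (hN : Nat.card (normalizer (zpowers s : Set G)) = 2 * e)
    (hTI : ∀ g : G, g ∉ normalizer (zpowers s : Set G) → ∀ x ∈ zpowers s, g * x * g⁻¹ ∈ zpowers s → x = 1) :
    ∀ g ∈ normalizer (zpowers s : Set G), g ∉ zpowers s → ∀ x ∈ zpowers s, g * x * g⁻¹ = x⁻¹ := by
  classical
  have he : 0 < e := hse ▸ orderOf_pos s
  set E := zpowers s with hE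
  set N := normalizer (E : Set G) with hNdef
  intro r hrN hrE
  have hEN : E ≤ N := le_normalizer
  have hcE : Nat.card E = e := by rw [hE, Nat.card_zpowers, hse]
  have hidx : E.relIndex N = 2 := by
    have h1 := (E.subgroupOf N).card_mul_index
    rw [Nat.card_congr (subgroupOfEquivOfLe hEN).toEquiv, hcE, hN] at h1
    exact Nat.eq_of_mul_eq_mul_left he (h1.trans (mul_comm 2 e))
  have hsq : ∀ z ∈ N, z * z ∈ E := fun z hz =>
    mul_self_mem_of_index_two (H := E.subgroupOf N) hidx ⟨z, hz⟩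
  have hnorm : ∀ g ∈ N, ∀ x ∈ E, g * x * g⁻¹ ∈ E := fun g hg x hx => (mem_normalizer_iff.1 hg x).1 hx
  obtain ⟨k, hk⟩ : ∃ k : ℕ, r * s * r⁻¹ = s ^ k := by
    obtain ⟨k, hk⟩ := (mem_powers_iff_mem_zpowers).2 (hnorm r hrN s (mem_zpowers s))
    exact ⟨k, hk.symm⟩
  have hconjpow : ∀ j : ℕ, r * s ^ j * r⁻¹ = s ^ (k * j) := fun j => by
    rw [← conj_pow, hk, ← pow_mul]
  have hk2 : e ∣ k * k - 1 ∧ 1 ≤ k * k ∨ e = 1 := by
    rcases Nat.eq_or_lt_of_le he with he1 | he1
    · exact Or.inr he1.symm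
    left
    obtain ⟨i, hi⟩ := mem_zpowers_iff.1 (hsq r hrN)
    have h1 : r * (r * s * r⁻¹) * r⁻¹ = s := by
      rw [show r * (r * s * r⁻¹) * r⁻¹ = (r * r) * s * (r * r)⁻¹ by group, ← hi]
      group
    rw [hk, hconjpow] at h1
    have hk0 : 1 ≤ k * k := by
      by_contra h0
      rw [show k * k = 0 by omega, pow_zero] at h1
      rw [← h1, orderOf_one] at hse
      omega
    refine ⟨?_, hk0⟩
    rw [← hse, orderOf_dvd_iff_pow_eq_one]
    have h2 : s ^ (k * k - 1) * s = 1 * s := by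
      rw [← pow_succ, Nat.sub_add_cancel hk0, h1, one_mul]
    exact mul_right_cancel h2
  suffices hdvd : e ∣ k + 1 by
    intro x hx
    obtain ⟨j, rfl⟩ := (mem_powers_iff_mem_zpowers).2 hx
    show r * s ^ j * r⁻¹ = (s ^ j)⁻¹
    rw [hconjpow]
    refine eq_inv_of_mul_eq_one_left ?_
    rw [← pow_add, ← orderOf_dvd_iff_pow_eq_one, hse, show k * j + j = (k + 1) * j by ring]
    exact dvd_mul_of_dvd_left hdvd j
  rcases hk2 with ⟨hk2, hk0⟩ | he1
  swap
  · rw [he1]; exact one_dvd _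
  refine (Nat.dvd_iff_prime_pow_dvd_dvd _ _).2 fun q a hq hqa => ?_
  rcases Nat.eq_zero_or_pos a with rfl | ha
  · simp
  haveI : Fact q.Prime := ⟨hq⟩
  -- enlarge to the full prime power
  obtain ⟨b, hab, hqb, hbmax⟩ : ∃ b, a ≤ b ∧ q ^ b ∣ e ∧ ¬ q ^ (b + 1) ∣ e := by
    refine ⟨e.factorization q, (hq.pow_dvd_iff_le_factorization he.ne').1 hqa, Nat.ordProj_dvd e q, ?_⟩
    rw [hq.pow_dvd_iff_le_factorization he.ne']
    omega
  refine (pow_dvd_pow q hab).trans ?_
  have hb : 1 ≤ b := le_trans ha hab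
  by_contra hkb
  obtain ⟨c, hc⟩ := hqb
  have hc0 : 0 < c := Nat.pos_of_ne_zero fun h0 => by rw [h0, mul_zero] at hc; omega
  obtain ⟨x, hxdef⟩ : ∃ x, x = s ^ c := ⟨_, rfl⟩
  have hxord : orderOf x = q ^ b := by
    rw [hxdef, orderOf_pow' s hc0.ne', hse, hc, Nat.gcd_mul_left_left, Nat.mul_div_cancel _ hc0]
  have hxE : x ∈ E := hxdef ▸ npow_mem_zpowers s c
  have hqc : ¬ q ∣ c := fun hd => hbmax (by
    rw [hc, pow_succ]; exact mul_dvd_mul_left _ hd)
  have hrx : r * x * r⁻¹ = x ^ k := by rw [hxdef, hconjpow, ← pow_mul, mul_comm]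
  have hsplit : q ^ b ∣ (k - 1) * (k + 1) := by
    have h1 : (k - 1) * (k + 1) = k * k - 1 := by
      rw [mul_comm, ← Nat.sq_sub_sq, one_pow, sq]
    rw [h1]
    exact (Dvd.intro c hc.symm).trans hk2
  have hk1 : 1 ≤ k := Nat.one_le_iff_ne_zero.2 fun h0 => by rw [h0] at hk0; omega
  have hxTI : ∀ {g : G} {n : ℕ}, ¬ q ^ b ∣ n → g * x ^ n * g⁻¹ ∈ E → g ∈ N := by
    intro g n hn hg
    by_contra hgN
    exact hn (hxord ▸ orderOf_dvd_of_pow_eq_one (hTI g hgN _ (pow_mem hxE n) hg))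
  by_cases hq2 : q = 2
  swap
  · -- an odd prime: the element `r` centralises the Sylow subgroup
    have hq3 : 3 ≤ q := by have := hq.two_le; omega
    have hk1' : q ^ b ∣ k - 1 := by
      refine (Nat.Coprime.pow_left b ?_).dvd_of_dvd_mul_right hsplit
      rw [Nat.Prime.coprime_iff_not_dvd hq]
      intro hd
      refine hkb ((Nat.Coprime.pow_left b ?_).dvd_of_dvd_mul_left hsplit)
      rw [Nat.Prime.coprime_iff_not_dvd hq]
      intro hd'
      have h2 : q ∣ (k + 1) - (k - 1) := Nat.dvd_sub hd hd'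
      rw [show (k + 1) - (k - 1) = 2 by omega] at h2
      have := Nat.le_of_dvd two_pos h2
      omega
    have hcomm : r * x * r⁻¹ = x := by
      rw [hrx]
      obtain ⟨d, hd⟩ := hk1'
      rw [show k = q ^ b * d + 1 by omega, pow_succ, pow_mul, ← hxord, pow_orderOf_eq_one, one_pow, one_mul]
    have hQN : zpowers x ≤ N := zpowers_le.2 (hEN hxE)
    have hnq : ∀ g ∈ normalizer (zpowers x : Set G), g ∈ N := by
      intro g hg
      have h1 : g * x ^ 1 * g⁻¹ ∈ E := by
        rw [pow_one]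
        exact zpowers_le.2 hxE ((mem_normalizer_iff.1 hg x).1 (mem_zpowers x))
      refine hxTI ?_ h1
      rw [Nat.dvd_one]
      have := Nat.one_lt_pow (by omega : b ≠ 0) hq.one_lt
      omega
    have hidxQ : ¬ q ∣ (zpowers x).relIndex N := by
      have h1 := ((zpowers x).subgroupOf N).card_mul_index
      rw [Nat.card_congr (subgroupOfEquivOfLe hQN).toEquiv, Nat.card_zpowers, hxord, hN] at h1
      change q ^ b * (zpowers x).relIndex N = 2 * e at h1
      rw [hc, ← mul_assoc, mul_comm 2, mul_assoc] at h1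
      rw [Nat.eq_of_mul_eq_mul_left (pow_pos hq.pos b) h1]
      intro hd
      rcases hq.dvd_mul.1 hd with h2 | h2
      · have := Nat.le_of_dvd two_pos h2; omega
      · exact hqc h2
    obtain ⟨T, hT⟩ := sylow_of_normalizer N (zpowers x) hQN
      (IsPGroup.of_card (by rw [Nat.card_zpowers, hxord])) hidxQ hnq
    refine burnside_contradiction hnc T (fun hbot => ?_) fun g hg => ?_
    · rw [hT, zpowers_eq_bot] at hbot
      have := hxord
      rw [hbot, orderOf_one] at this
      exact (Nat.one_lt_pow (by omega) hq.one_lt).ne this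
    · rw [hT] at hg ⊢
      refine mem_centralizer_iff.2 fun z hz => ?_
      obtain ⟨i, rfl⟩ := mem_zpowers_iff.1 hz
      have hgN := hnq g hg
      have hgx : g * x * g⁻¹ = x := by
        have hEc : ∀ w ∈ E, w * x * w⁻¹ = x := fun w hw => by
          obtain ⟨l, rfl⟩ := mem_zpowers_iff.1 hw
          rw [hxdef]; group
        by_cases hgE : g ∈ E
        · exact hEc g hgE
        · have h1 : r⁻¹ * g ∈ E := by
            have hiff := mul_mem_iff_of_index_two (H := E.subgroupOf N) hidx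
              (a := (⟨r⁻¹, inv_mem hrN⟩ : N)) (b := ⟨g, hgN⟩)
            simp only [mem_subgroupOf, coe_mul, inv_mem_iff] at hiff
            exact hiff.2 ⟨fun h1 => absurd h1 hrE, fun h1 => absurd h1 hgE⟩
          calc g * x * g⁻¹ = r * ((r⁻¹ * g) * x * (r⁻¹ * g)⁻¹) * r⁻¹ := by group
            _ = r * x * r⁻¹ := by rw [hEc _ h1]
            _ = x := hcomm
      have hc1 : Commute g x := mul_inv_eq_iff_eq_mul.1 hgx
      exact ((hc1.zpow_right i).eq).symm
  subst hq2
  -- the prime two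
  rcases Nat.eq_or_lt_of_le hb with hb1 | hb2
  · refine hkb ?_
    rw [← hb1, pow_one]
    have h2e : 2 ∣ k * k - 1 := by
      refine Dvd.dvd.trans ?_ hk2
      rw [hc, ← hb1, pow_one]
      exact dvd_mul_right 2 c
    by_contra hodd
    obtain ⟨d, hd⟩ : Even k := by
      rw [Nat.even_iff]; omega
    rw [hd, show (d + d) * (d + d) = 2 * (2 * d * d) by ring] at h2e hk0
    omega
  -- the Sylow two-subgroup of the normaliser
  obtain ⟨S₀⟩ : Nonempty (Sylow 2 N) := inferInstance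
  set S : Subgroup G := (S₀ : Subgroup N).map N.subtype with hSdef
  have hSN : S ≤ N := map_subtype_le _
  have hSp : IsPGroup 2 S := S₀.isPGroup'.map _
  have hSidx : ¬ 2 ∣ S.relIndex N := by
    have : S.subgroupOf N = (S₀ : Subgroup N) := comap_map_eq_self_of_injective N.subtype_injective _
    rw [relIndex, this]
    exact S₀.not_dvd_index
  have hxS : x ∈ S := by
    let Q : Subgroup N := (zpowers x).subgroupOf N
    haveI : Q.Normal := by
      refine ⟨fun z hz g => ?_⟩
      rw [mem_subgroupOf] at hz ⊢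
      obtain ⟨i, hi⟩ := mem_zpowers_iff.1 hz
      obtain ⟨j, hj⟩ := (mem_powers_iff_mem_zpowers).2 (hnorm g g.2 s (mem_zpowers s))
      have hgx : (g : G) * x * (g : G)⁻¹ = x ^ j := by
        rw [hxdef, ← conj_pow, ← show s ^ j = (g : G) * s * (g : G)⁻¹ from hj, ← pow_mul, ← pow_mul, mul_comm]
      show (g : G) * (z : G) * (g : G)⁻¹ ∈ zpowers x
      rw [← hi, ← conj_zpow, hgx]
      exact zpow_mem (npow_mem_zpowers x j) i
    have hQp : IsPGroup 2 Q := by
      refine IsPGroup.of_card (n := b) ?_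
      rw [Nat.card_congr (subgroupOfEquivOfLe (zpowers_le.2 (hEN hxE))).toEquiv, Nat.card_zpowers, hxord]
    have hle : Q ≤ (S₀ : Subgroup N) := by
      obtain ⟨U, hU⟩ := hQp.exists_le_sylow
      obtain ⟨g, rfl⟩ := MulAction.exists_smul_eq N U S₀
      intro z hz
      rw [Sylow.coe_subgroup_smul]
      refine ⟨g⁻¹ * z * g, hU ?_, by simp [mul_assoc]⟩
      have := Subgroup.Normal.conj_mem (inferInstance : Q.Normal) z hz g⁻¹
      simpa using this
    exact ⟨⟨x, hEN hxE⟩, hle (mem_zpowers x), rfl⟩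
  -- elements of order at least four lead into the normaliser
  have hkey : ∀ (g : G) (n : ℕ), g⁻¹ * x ^ n * g ∈ S → g⁻¹ * x ^ (2 * n) * g ≠ 1 → g ∈ N := by
    intro g n hg hne
    have h1 := hsq _ (hSN hg)
    rw [show g⁻¹ * x ^ n * g * (g⁻¹ * x ^ n * g) = g⁻¹ * x ^ (2 * n) * g by
      rw [two_mul, pow_add]; group] at h1
    have h2 : g⁻¹ * x ^ (2 * n) * g⁻¹⁻¹ ∈ E := by rwa [inv_inv]
    have h3 := hxTI (fun hd => hne (by
      rw [orderOf_dvd_iff_pow_eq_one.1 (hxord ▸ hd)]; simp)) h2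
    simpa using inv_mem h3
  have hnS : ∀ g ∈ normalizer (S : Set G), g ∈ N := by
    intro g hg
    refine hkey g 1 ?_ ?_
    · rw [pow_one]
      have := (mem_normalizer_iff.1 (inv_mem hg) x).1 hxS
      simpa using this
    · intro h1
      have h2 : x ^ 2 = 1 := by
        calc x ^ 2 = g * (g⁻¹ * x ^ (2 * 1) * g) * g⁻¹ := by group
          _ = 1 := by rw [h1]; group
      have h3 := Nat.le_of_dvd two_pos (hxord ▸ orderOf_dvd_of_pow_eq_one h2)
      have h4 : 2 ^ 2 ≤ 2 ^ b := Nat.pow_le_pow_right two_pos hb2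
      omega
  obtain ⟨T, hT⟩ := sylow_of_normalizer N S hSN hSp hSidx hnS
  by_cases hcyc : IsCyclic S
  · have hmin : (Nat.card G).minFac = 2 := by
      rw [Nat.minFac_eq_two_iff]
      refine (dvd_trans ?_ (card_subgroup_dvd_card N))
      rw [hN]; exact dvd_mul_right 2 e
    have hne : (T : Subgroup G) ≠ ⊥ := fun hbot => by
      rw [hT] at hbot
      rw [hbot, mem_bot] at hxS
      rw [hxS, orderOf_one] at hxord
      exact (Nat.one_lt_pow (by omega) (by norm_num)).ne hxord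
    refine burnside_contradiction hnc T hne (IsCyclic.normalizer_le_centralizer hmin ?_)
    show IsCyclic (T : Subgroup G)
    rw [hT]; exact hcyc
  -- work inside `S`
  have hES : ∀ z ∈ S, z ∈ E → z ∈ zpowers x := by
    intro z hzS hzE
    obtain ⟨j, rfl⟩ := (mem_powers_iff_mem_zpowers).2 hzE
    obtain ⟨l, hl⟩ := hSp ⟨s ^ j, hzS⟩
    have h1 : (s ^ j) ^ 2 ^ l = 1 := congrArg Subtype.val hl
    rw [← pow_mul, ← orderOf_dvd_iff_pow_eq_one, hse, hc] at h1
    have h2 : c ∣ j := (Nat.Coprime.pow_right l (Nat.Coprime.symm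
      ((Nat.Prime.coprime_iff_not_dvd Nat.prime_two).2 hqc))).dvd_of_dvd_mul_right
      ((dvd_mul_left c _).trans h1)
    obtain ⟨d, rfl⟩ := h2
    show s ^ (c * d) ∈ zpowers x
    rw [pow_mul, ← hxdef]
    exact npow_mem_zpowers x d
  have hSE : ∀ v ∈ S, ∀ w ∈ S, v ∉ E → w ∉ E → v⁻¹ * w ∈ zpowers x := by
    intro v hv w hw hvE hwE
    refine hES _ (mul_mem (inv_mem hv) hw) ?_
    have hiff := mul_mem_iff_of_index_two (H := E.subgroupOf N) hidx
      (a := (⟨v⁻¹, inv_mem (hSN hv)⟩ : N)) (b := ⟨w, hSN hw⟩)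
    simp only [mem_subgroupOf, coe_mul, inv_mem_iff] at hiff
    exact hiff.2 ⟨fun h1 => absurd h1 hvE, fun h1 => absurd h1 hwE⟩
  -- an outer element, an involution if there is one
  obtain ⟨y, hyS, hyE, hyinv⟩ : ∃ y ∈ S, y ∉ E ∧ ((∃ w ∈ S, w ∉ E ∧ w * w = 1) → y * y = 1) := by
    by_cases hex : ∃ w ∈ S, w ∉ E ∧ w * w = 1
    · obtain ⟨w, hw1, hw2, hw3⟩ := hex
      exact ⟨w, hw1, hw2, fun _ => hw3⟩
    · obtain ⟨y, hy, hyE⟩ : ∃ y ∈ S, y ∉ E := by
        by_contra hall
        push Not at hall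
        refine hcyc ?_
        have hle : S ≤ zpowers x := fun z hz => hES z hz (hall z hz)
        exact isCyclic_of_injective (Subgroup.inclusion hle) (Subgroup.inclusion_injective hle)
      exact ⟨y, hy, hyE, fun h1 => absurd h1 hex⟩
  have hyy : y * y ∈ zpowers (x ^ 2) := by
    obtain ⟨d, hd⟩ := (mem_powers_iff_mem_zpowers).2 (hES _ (mul_mem hyS hyS) (hsq y (hSN hyS)))
    have hd' : x ^ d = y * y := hd
    rcases Nat.even_or_odd' d with ⟨d', rfl | rfl⟩
    · rw [← hd', pow_mul]; exact npow_mem_zpowers _ _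
    · exfalso
      refine hcyc ?_
      have hxy : x ∈ zpowers y := by
        have hcop : (2 * d' + 1).Coprime (orderOf x) := by
          rw [hxord]
          exact (Nat.Coprime.pow_right b (Nat.coprime_two_right.2 ⟨d', rfl⟩))
        obtain ⟨i, hi⟩ := exists_pow_eq_self_of_coprime hcop
        rw [← hi, hd']
        exact pow_mem (mul_mem (mem_zpowers y) (mem_zpowers y)) i
      have hle : S ≤ zpowers y := fun z hz => by
        by_cases hzE : z ∈ E
        · exact zpowers_le.2 hxy (hES z hz hzE)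
        · have := mul_mem (mem_zpowers y) (zpowers_le.2 hxy (hSE y hyS z hz hyE hzE))
          simpa using this
      exact isCyclic_of_injective (Subgroup.inclusion hle) (Subgroup.inclusion_injective hle)
  obtain ⟨ky, hky⟩ : ∃ n : ℕ, y * x * y⁻¹ = x ^ n := by
    obtain ⟨n, hn⟩ := (mem_powers_iff_mem_zpowers).2 (hES _ (mul_mem (mul_mem hyS hxS) (inv_mem hyS))
      (hnorm y (hSN hyS) x hxE))
    exact ⟨n, hn.symm⟩
  -- the subgroup of index two
  let x' : S := ⟨x, hxS⟩
  let y' : S := ⟨y, hyS⟩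
  let X2 : Subgroup S := zpowers (x' ^ 2)
  have hX2mem : ∀ z : S, z ∈ X2 ↔ (z : G) ∈ zpowers (x ^ 2) := fun z => by
    simp only [X2, mem_zpowers_iff, Subtype.ext_iff, coe_zpow, coe_pow, x']
  haveI : X2.Normal := by
    refine ⟨fun z hz g => ?_⟩
    rw [hX2mem] at hz ⊢
    obtain ⟨i, hi⟩ := mem_zpowers_iff.1 hz
    obtain ⟨j, hj⟩ := (mem_powers_iff_mem_zpowers).2 (hES _ (mul_mem (mul_mem g.2 hxS) (inv_mem g.2))
      (hnorm g (hSN g.2) x hxE))
    have hgx : (g : G) * x * (g : G)⁻¹ = x ^ j := hj.symm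
    show (g : G) * (z : G) * (g : G)⁻¹ ∈ zpowers (x ^ 2)
    rw [← hi, ← conj_zpow, ← conj_pow, hgx, ← pow_mul, mul_comm, pow_mul]
    exact zpow_mem (npow_mem_zpowers _ j) i
  let K : Subgroup S := X2 ⊔ zpowers y'
  have hyK : y' ∈ K := le_sup_right (a := X2) (mem_zpowers y')
  have hX2K : X2 ≤ K := le_sup_left
  have hxX2 : ¬ (x' ∈ X2) := by
    rw [hX2mem]
    intro h1
    obtain ⟨i, hi⟩ := mem_zpowers_iff.1 h1
    have h2 : x ^ (2 * i - 1) = 1 := by
      rw [zpow_sub, zpow_one, zpow_mul, show x ^ (2 : ℤ) = x ^ (2 : ℕ) from zpow_natCast x 2]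
      show (x ^ 2) ^ i * x⁻¹ = 1
      rw [show (x ^ 2) ^ i = x from hi, mul_inv_cancel]
    rw [← orderOf_dvd_iff_zpow_eq_one, hxord] at h2
    have h3 : (2 : ℤ) ∣ 2 * i - 1 := dvd_trans (by exact_mod_cast dvd_pow_self 2 (by omega : b ≠ 0)) h2
    omega
  have hxK : x' ∉ K := by
    intro hmem
    obtain ⟨v, hv, w, hw, hvw⟩ := mem_sup_of_normal_left.1 hmem
    obtain ⟨i, rfl⟩ := mem_zpowers_iff.1 hw
    have hy2 : y' ^ (2 : ℤ) ∈ X2 := by rw [hX2mem, zpow_two]; exact hyy
    rcases Int.even_or_odd' i with ⟨i', rfl | rfl⟩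
    · refine hxX2 ?_
      rw [← hvw, zpow_mul]
      exact mul_mem hv (zpow_mem hy2 i')
    · refine hyE ?_
      have h1 : y' = (v * y' ^ (2 * i'))⁻¹ * x' := by
        rw [← hvw, zpow_add, zpow_one]; group
      have h2 : v * y' ^ (2 * i') ∈ X2 := by rw [zpow_mul]; exact mul_mem hv (zpow_mem hy2 i')
      have h3 : ((v * y' ^ (2 * i') : S) : G) ∈ E :=
        zpowers_le.2 (pow_mem hxE 2) ((hX2mem _).1 h2)
      have := congrArg Subtype.val h1
      push_cast at this
      show y ∈ E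
      rw [show y = ((v * y' ^ (2 * i') : S) : G)⁻¹ * x from this]
      exact mul_mem (inv_mem h3) hxE
  have hxpow : ∀ i : ℤ, x' ^ i ∈ K ↔ Even i := by
    intro i
    have h2 : x' ^ (2 : ℤ) ∈ K := by rw [zpow_ofNat]; exact hX2K (mem_zpowers (x' ^ 2))
    rcases Int.even_or_odd' i with ⟨i', rfl | rfl⟩
    · exact ⟨fun _ => even_two_mul i', fun _ => by rw [zpow_mul]; exact zpow_mem h2 i'⟩
    · refine ⟨fun h1 => absurd ?_ hxK, fun h1 => absurd h1 (by simp)⟩
      rw [zpow_add, zpow_one, zpow_mul, mul_mem_cancel_left (zpow_mem h2 i')] at h1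
      exact h1
  have hKidx : K.index = 2 := by
    rw [index_eq_two_iff_exists_notMem_and]
    refine ⟨x', hxK, fun z => ?_⟩
    obtain ⟨w, hwK, i, hi⟩ : ∃ w ∈ K, ∃ i : ℤ, z = w * x' ^ i := by
      by_cases hzE : (z : G) ∈ E
      · obtain ⟨i, hi⟩ := mem_zpowers_iff.1 (hES z z.2 hzE)
        exact ⟨1, one_mem K, i, Subtype.ext (by simp [x', hi])⟩
      · obtain ⟨i, hi⟩ := mem_zpowers_iff.1 (hSE y hyS z z.2 hyE hzE)
        exact ⟨y', hyK, i, Subtype.ext (by
          show (z : G) = y * ((x' ^ i : S) : G)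
          rw [coe_zpow, show x ^ i = y⁻¹ * z from hi, mul_inv_cancel_left])⟩
    rcases Int.even_or_odd i with h1 | h1
    · right; rw [hi]; exact mul_mem hwK ((hxpow i).2 h1)
    · left
      rw [hi, mul_assoc, ← zpow_add_one]
      exact mul_mem hwK ((hxpow _).2 h1.add_one)
  -- involutions lie in `K`
  have hinvK : ∀ z : S, z * z = 1 → z ∈ K := by
    intro z hz
    have hzG : (z : G) * z = 1 := congrArg Subtype.val hz
    by_cases hzE : (z : G) ∈ E
    · obtain ⟨i, hi⟩ := mem_zpowers_iff.1 (hES z z.2 hzE)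
      have hzi : z = x' ^ i := Subtype.ext (by simp [x', hi])
      rw [hzi, hxpow]
      have h1 : x ^ (i + i) = 1 := by rw [zpow_add, hi, hzG]
      rw [← orderOf_dvd_iff_zpow_eq_one, hxord] at h1
      have h2 : ((2 ^ 2 : ℕ) : ℤ) ∣ i + i :=
        dvd_trans (Int.natCast_dvd_natCast.2 (pow_dvd_pow 2 hb2)) h1
      rw [Int.even_iff]
      push_cast at h2
      omega
    · have hy1 : y * y = 1 := hyinv ⟨z, z.2, hzE, hzG⟩
      obtain ⟨i, hi⟩ := mem_zpowers_iff.1 (hSE y hyS z z.2 hyE hzE)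
      have hzi : z = y' * x' ^ i := Subtype.ext (by
        show (z : G) = y * ((x' ^ i : S) : G)
        rw [coe_zpow, show x ^ i = y⁻¹ * z from hi, mul_inv_cancel_left])
      rw [hzi]
      refine mul_mem hyK ((hxpow i).2 ?_)
      by_contra hio
      rw [Int.not_even_iff_odd] at hio
      have hzy : (z : G) = y * x ^ i := by rw [hi, mul_inv_cancel_left]
      have hyinv' : y⁻¹ = y := inv_eq_of_mul_eq_one_right hy1
      have h1 : x ^ (((ky : ℤ) + 1) * i) = 1 := by
        have h2 : y * x ^ i * y⁻¹ = x ^ ((ky : ℤ) * i) := by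
          rw [← conj_zpow, hky, ← zpow_natCast, ← zpow_mul]
        rw [add_mul, one_mul, zpow_add, ← h2, hyinv', ← hzG, hzy]
        group
      rw [← orderOf_dvd_iff_zpow_eq_one, hxord] at h1
      have hcop : IsCoprime ((2 ^ b : ℕ) : ℤ) i := by
        push_cast
        refine IsCoprime.pow_left ((Int.prime_two.coprime_iff_not_dvd).2 ?_)
        exact fun hd => (Int.not_even_iff_odd.2 hio) (even_iff_two_dvd.2 hd)
      have h3 : (2 ^ b : ℕ) ∣ ky + 1 := Int.natCast_dvd_natCast.1 (by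
        push_cast
        have := hcop.dvd_of_dvd_mul_right h1
        push_cast at this
        exact this)
      -- so `y` inverts `x`, and then so does `r`
      refine hkb ?_
      have hry : r⁻¹ * y ∈ E := by
        have hiff := mul_mem_iff_of_index_two (H := E.subgroupOf N) hidx
          (a := (⟨r⁻¹, inv_mem hrN⟩ : N)) (b := ⟨y, hSN hyS⟩)
        simp only [mem_subgroupOf, coe_mul, inv_mem_iff] at hiff
        exact hiff.2 ⟨fun h1 => absurd h1 hrE, fun h1 => absurd h1 hyE⟩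
      have h4 : x ^ k = x ^ ky := by
        rw [← hrx, ← hky]
        obtain ⟨l, hl⟩ := mem_zpowers_iff.1 hry
        rw [show y = r * s ^ l by rw [hl]; group, hxdef]
        group
      rw [← hxord, orderOf_dvd_iff_pow_eq_one, pow_succ, h4, ← pow_succ, ← orderOf_dvd_iff_pow_eq_one,
        hxord]
      exact h3
  let ε : S →* ℤˣ :=
    { toFun := fun z => if z ∈ K then 1 else -1
      map_one' := if_pos (one_mem K)
      map_mul' := fun v w => by
        have h1 := mul_mem_iff_of_index_two (H := K) hKidx (a := v) (b := w)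
        by_cases hv : v ∈ K <;> by_cases hw : w ∈ K <;> simp [h1, hv, hw] }
  let ε' : (T : Subgroup G) →* ℤˣ := ε.comp (MulEquiv.subgroupCongr hT).toMonoidHom
  refine transfer_contradiction hperf T N (hT ▸ hSN) ε' x (fun g n hg hgN => ?_) (fun g hg => ?_)
  · show ε _ = 1
    refine if_pos (hinvK _ (Subtype.ext ?_))
    show g⁻¹ * x ^ n * g * (g⁻¹ * x ^ n * g) = 1
    by_contra hne
    refine hgN (hkey g n (by rw [← hT]; exact hg) fun h1 => hne ?_)
    rw [← h1, two_mul, pow_add]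
    group
  · obtain ⟨j, hj⟩ := (mem_powers_iff_mem_zpowers).2 (hnorm g⁻¹ (inv_mem hg) s (mem_zpowers s))
    have hgx : g⁻¹ * x * g = x ^ j := by
      have h1 : s ^ j = g⁻¹ * s * g⁻¹⁻¹ := hj
      calc g⁻¹ * x * g = (g⁻¹ * s * g⁻¹⁻¹) ^ c := by rw [conj_pow, inv_inv, hxdef]
        _ = x ^ j := by rw [← h1, hxdef, ← pow_mul, ← pow_mul, mul_comm]
    have hmem : g⁻¹ * x * g ∈ (T : Subgroup G) := by rw [hT, hgx]; exact pow_mem hxS j
    refine ⟨hmem, ?_⟩
    show ε _ = -1
    refine if_neg ?_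
    rw [show (MulEquiv.subgroupCongr hT).toMonoidHom ⟨g⁻¹ * x * g, hmem⟩ = x' ^ (j : ℤ) from
      Subtype.ext (by show g⁻¹ * x * g = _; rw [hgx, zpow_natCast]; rfl), hxpow, Int.even_coe_nat]
    intro hev
    obtain ⟨j', rfl⟩ := hev
    have h1 : orderOf (g⁻¹ * x * g) = 2 ^ b := by
      rw [show g⁻¹ * x * g = MulAut.conj g⁻¹ x by simp [MulAut.conj_apply], MulEquiv.orderOf_eq, hxord]
    have h2 : (g⁻¹ * x * g) ^ 2 ^ (b - 1) = 1 := by
      rw [hgx, ← pow_mul, ← orderOf_dvd_iff_pow_eq_one, hxord]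
      refine ⟨j', ?_⟩
      rw [show (j' + j') * 2 ^ (b - 1) = j' * 2 ^ (b - 1 + 1) by rw [pow_succ]; ring,
        Nat.sub_add_cancel hb, mul_comm]
    have h3 := orderOf_dvd_of_pow_eq_one h2
    rw [h1, Nat.pow_dvd_pow_iff_le_right (by norm_num)] at h3
    omega

end CfsgLib.PrimeDegreeTI
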