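import Cfsg.Agent.Lib.PrimeDegreeTI.SmallRep
import Cfsg.Agent.Lib.CharApps.TILattice
import Cfsg.Agent.Lib.SmallDegree.Boundary
import Cfsg.Agent.Lib.Chars.Basic

/-!
# A simple group with the configuration and the exceptional character is `PSL₂(p)`
-/

set_option autoImplicit false
set_option linter.style.haveILetI false
set_option linter.unusedSectionVars false

namespace CfsgLib.PrimeDegreeTI

open Finset MulAction Module

variable {G : Type*} [Group G] [Finite G] {α : Type*} [Fintype α] [DecidableEq α] [MulAction G α]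
  {p : ℕ} [Fact p.Prime] {u s : G} {a₀ : α} {m : ZMod p} {e t : ℕ}

/-- Roots of unity lie in every valuation ring. -/
theorem root_mem (B : ValuationSubring ℂ) {x : ℂ} {n : ℕ} (hn : n ≠ 0) (hx : x ^ n = 1) : x ∈ B := by
  rw [← B.valuation_le_one_iff]
  have h : B.valuation x ^ n = 1 := by rw [← map_pow, hx, map_one]
  exact ((pow_eq_one_iff_of_nonneg zero_le hn).1 h).le

theorem Cfg.psl_of_char [IsSimpleGroup G] (h : Cfg p u s a₀ m e t) (hp7 : 7 ≤ p) (hsq : ¬ p ^ 2 ∣ Nat.card G)
    (hheart : ∀ (k : Type) [Field k] [CharP k p], ∀ W : Subrepresentation (Cfsg.permRep k G α),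
      (Cfsg.permConstants k G α).toSubmodule ≤ W.toSubmodule →
      W.toSubmodule ≤ (Cfsg.permSumZero k G α).toSubmodule →
      W = Cfsg.permConstants k G α ∨ W = Cfsg.permSumZero k G α)
    (hexc : ∀ ω : ℂ, IsPrimitiveRoot ω e → ∃ X : Cfsg.IrrCharacter G, (X : G → ℂ) 1 = p + 1 ∧
      ∀ j : ℕ, ¬ e ∣ j → (X : G → ℂ) (s ^ j) = ω ^ j + (ω ^ j)⁻¹) :
    Nonempty (G ≃* Matrix.ProjectiveSpecialLinearGroup (Fin 2) (ZMod p)) := by
  classical
  have hP := (Fact.out : p.Prime)
  obtain ⟨B, hchar, hclosed⟩ := CfsgLib.SmallDegree.exists_valuationSubring_prime p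
  let k := IsLocalRing.ResidueField B
  let π := IsLocalRing.residue B
  have hek : (e : k) ≠ 0 := h.e_ne_zero
  -- the root of unity
  let w₀ : ℂ := Complex.exp (2 * Real.pi * Complex.I / e)
  have hw₀ : IsPrimitiveRoot w₀ e := Complex.isPrimitiveRoot_exp e h.e_pos.ne'
  let b₀ : B := ⟨w₀, root_mem B h.e_pos.ne' hw₀.pow_eq_one⟩
  have hb₀ : b₀ ^ e = 1 := Subtype.ext hw₀.pow_eq_one
  have hprim : IsPrimitiveRoot (π b₀) e := by
    refine IsPrimitiveRoot.iff_def _ _ |>.2 ⟨by rw [← map_pow, hb₀, map_one], fun l hl => ?_⟩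
    by_contra hne
    have h1 : ∑ i ∈ range e, (b₀ ^ l) ^ i = 0 := by
      refine Subtype.ext ?_
      push_cast
      show ∑ i ∈ range e, (w₀ ^ l) ^ i = 0
      rw [geom_sum_eq (fun h1 => hne (hw₀.dvd_of_pow_eq_one l h1)), ← pow_mul, mul_comm, pow_mul,
        hw₀.pow_eq_one, one_pow, sub_self, zero_div]
    refine hek ?_
    have := congrArg π h1
    simpa [map_sum, hl] using this
  haveI : NeZero e := ⟨h.e_pos.ne'⟩
  obtain ⟨i, -, hi⟩ := hprim.eq_pow_of_pow_eq_one (h.mult_pow (k := k))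
  let ω : ℂ := w₀ ^ i
  let bω : B := b₀ ^ i
  have hbω : π bω = mult k m := by rw [map_pow, hi]
  have hω : IsPrimitiveRoot ω e := by
    refine IsPrimitiveRoot.iff_def _ _ |>.2 ⟨by
      rw [← pow_mul, mul_comm, pow_mul, hw₀.pow_eq_one, one_pow], fun l hl => ?_⟩
    refine (h.mult_primitive (k := k)).dvd_of_pow_eq_one l ?_
    have : bω ^ l = 1 := Subtype.ext hl
    rw [← hbω, ← map_pow, this, map_one]
  obtain ⟨X, hX1, hXs⟩ := hexc ω hω
  obtain ⟨n, ρ, -, hρ⟩ := X.2
  have hn : n = p + 1 := by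
    have := hX1
    rw [← hρ, Representation.char_one, Module.finrank_fin_fun] at this
    exact_mod_cast this
  -- the reduction
  obtain ⟨ι, _, _, bs, hbs⟩ := CfsgLib.CharApps.TILattice.exists_integral_form ρ B
  let μ : G →* Matrix ι ι B :=
    { toFun := fun g => Matrix.of fun a b => ⟨LinearMap.toMatrix bs bs (ρ g) a b, hbs g a b⟩
      map_one' := by
        ext a b
        simp only [Matrix.of_apply, map_one, LinearMap.toMatrix_one, Matrix.one_apply]
        split_ifs <;> simp
      map_mul' := fun g g' => by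
        ext a b
        simp only [Matrix.of_apply, map_mul, LinearMap.toMatrix_mul, Matrix.mul_apply]
        push_cast
        rfl }
  let τ : Representation k G (ι → k) :=
    (Matrix.toLinAlgEquiv' (R := k)).toAlgHom.toMonoidHom.comp (π.mapMatrix.toMonoidHom.comp μ)
  have htr : ∀ g : G, ∃ b : B, (b : ℂ) = (X : G → ℂ) g ∧ LinearMap.trace k (ι → k) (τ g) = π b := by
    intro g
    refine ⟨Matrix.trace (μ g), ?_, ?_⟩
    · rw [← hρ]
      show _ = LinearMap.trace ℂ _ (ρ g)
      rw [LinearMap.trace_eq_matrix_trace ℂ bs, Matrix.trace, Matrix.trace]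
      push_cast
      rfl
    · show LinearMap.trace k (ι → k) (Matrix.toLin' (π.mapMatrix (μ g))) = _
      rw [Matrix.trace_toLin'_eq, Matrix.trace, Matrix.trace, map_sum]
      rfl
  have hdim : finrank k (ι → k) = p + 1 := by
    rw [Module.finrank_pi, ← hn, ← Module.finrank_fin_fun (R := ℂ) (n := n)]
    exact (Module.finrank_eq_card_basis bs).symm
  have htrj : ∀ j : ℕ, ¬ e ∣ j → LinearMap.trace k (ι → k) (τ (s ^ j)) = mult k m ^ j + (mult k m ^ j)⁻¹ := by
    intro j hj
    obtain ⟨b, hb, hbt⟩ := htr (s ^ j)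
    have hinv : (mult k m ^ j)⁻¹ = π ((bω ^ j) ^ (e - 1)) := by
      refine inv_eq_of_mul_eq_one_left ?_
      rw [map_pow, map_pow, hbω, ← pow_succ, Nat.sub_add_cancel h.e_pos, ← pow_mul, mul_comm, pow_mul,
        h.mult_pow, one_pow]
    have hb' : b = bω ^ j + (bω ^ j) ^ (e - 1) := by
      refine Subtype.ext ?_
      rw [hb, hXs j hj]
      push_cast
      show ω ^ j + (ω ^ j)⁻¹ = ω ^ j + (ω ^ j) ^ (e - 1)
      congr 1
      refine inv_eq_of_mul_eq_one_left ?_
      rw [← pow_succ, Nat.sub_add_cancel h.e_pos, ← pow_mul, mul_comm, pow_mul, hω.pow_eq_one, one_pow]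
    rw [hbt, hb', map_add, map_pow π bω, hbω, ← hinv]
  obtain ⟨r, σ, hr, g₁, hg₁⟩ := h.exists_small_rep τ hdim htrj (hheart k)
  have hσ : Function.Injective σ := by
    let K := σ.asGroupHom.ker
    have hKmem : ∀ g, g ∈ K ↔ σ g = 1 := fun g => by
      rw [MonoidHom.mem_ker, Units.ext_iff, Representation.asGroupHom_apply]; rfl
    have hK : K = ⊥ := ((MonoidHom.normal_ker σ.asGroupHom).eq_bot_or_eq_top).resolve_right fun htop =>
      hg₁ ((hKmem g₁).1 (by rw [show K = ⊤ from htop]; exact Subgroup.mem_top g₁))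
    intro g g' hgg
    have h1 : g⁻¹ * g' ∈ K :=
      (hKmem _).2 (by rw [map_mul, ← hgg, ← map_mul, inv_mul_cancel, map_one])
    rw [hK, Subgroup.mem_bot] at h1
    exact inv_mul_eq_one.1 h1
  have hncomm : s * u ≠ u * s := fun hc => by
    have h2 := h.conj_u
    rw [hc, mul_inv_cancel_right] at h2
    have h3 : u ^ (1 : ℕ) = u ^ m.val := by rw [pow_one]; exact h2
    rw [pow_inj_mod, h.ord_u, Nat.mod_eq_of_lt hP.one_lt, Nat.mod_eq_of_lt (ZMod.val_lt m)] at h3
    have hm : m = 1 := ZMod.val_injective p (by rw [← h3, ZMod.val_one])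
    have := h.ord_m
    rw [hm, orderOf_one] at this
    have := h.three_le
    omega
  have hnn : ∀ H : Subgroup G, H.Normal → Nat.card H ≠ p := fun H hH hc => by
    rcases hH.eq_bot_or_eq_top with rfl | rfl
    · rw [Subgroup.card_bot] at hc; exact hP.one_lt.ne hc
    · rw [Subgroup.card_top] at hc
      haveI := isCyclic_of_prime_card hc
      exact hncomm (IsCyclic.commGroup.mul_comm s u)
  have hA : ∀ A : Finset (ZMod p), (∀ a ∈ A, ∃ g : G, g * u * g⁻¹ = u ^ a.val) → 2 * A.card + 1 ≤ p := by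
    intro A hA
    have hsub : A ⊆ (range e).image fun i : ℕ => m ^ i := by
      intro a ha
      obtain ⟨g, hg⟩ := hA a ha
      have hnorm : g ∈ Subgroup.normalizer (Subgroup.zpowers u : Set G) := by
        have hle : (Subgroup.zpowers u).map (MulAut.conj g).toMonoidHom ≤ Subgroup.zpowers u := by
          rintro _ ⟨y, hy, rfl⟩
          obtain ⟨q, rfl⟩ := Subgroup.mem_zpowers_iff.1 hy
          rw [map_zpow]
          refine zpow_mem ?_ q
          show g * u * g⁻¹ ∈ _
          rw [hg]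
          exact Subgroup.npow_mem_zpowers u _
        have heq := Subgroup.eq_of_le_of_card_ge hle
          (by rw [Subgroup.card_map_of_injective (MulAut.conj g).injective])
        rw [Subgroup.mem_normalizer_iff]
        intro y
        constructor
        · exact fun hy => hle ⟨y, hy, rfl⟩
        · intro hy
          have hy' : MulAut.conj g y ∈ (Subgroup.zpowers u).map (MulAut.conj g).toMonoidHom := by
            rw [heq]; exact hy
          obtain ⟨z, hz, hzy⟩ := hy'
          exact (MulAut.conj g).injective hzy ▸ hz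
      obtain ⟨i, j, rfl⟩ := h.mem_normalizer g hnorm
      have hsi : ∀ l : ℕ, s ^ l * u = u ^ (m ^ l).val * s ^ l := by
        intro l
        induction l with
        | zero => simp [ZMod.val_one]
        | succ l ih => rw [pow_succ' s, mul_assoc, ih, ← mul_assoc, h.s_upow, mul_assoc, ← pow_succ' m]
      have h2 : s ^ i * u ^ j * u * (s ^ i * u ^ j)⁻¹ = u ^ (m ^ i).val := by
        rw [show s ^ i * u ^ j * u * (s ^ i * u ^ j)⁻¹ = s ^ i * u * (s ^ i)⁻¹ by group, hsi,
          mul_inv_cancel_right]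
      rw [h2] at hg
      rw [pow_inj_mod, h.ord_u, Nat.mod_eq_of_lt (ZMod.val_lt _), Nat.mod_eq_of_lt (ZMod.val_lt _)] at hg
      rw [mem_image]
      refine ⟨i % e, Finset.mem_range.2 (Nat.mod_lt _ h.e_pos), ?_⟩
      rw [← h.ord_m, pow_mod_orderOf]
      exact ZMod.val_injective p hg
    have := (Finset.card_le_card hsub).trans Finset.card_image_le
    rw [Finset.card_range] at this
    have := h.e_lt
    omega
  obtain ⟨φ, hφs, hφp, -⟩ := CfsgLib.SmallDegree.exists_psl_of_modular σ hσ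
    (by rw [Module.finrank_fin_fun]; omega) (by omega) hsq hnn h.ord_u hA
  have hker : φ.ker = ⊥ := (MonoidHom.normal_ker φ).eq_bot_or_eq_top.resolve_right fun htop => hφp (by
    rw [htop, Subgroup.card_top, ← h.ord_u]
    exact orderOf_dvd_natCard u)
  exact ⟨MulEquiv.ofBijective φ ⟨(MonoidHom.ker_eq_bot_iff φ).1 hker, hφs⟩⟩

end CfsgLib.PrimeDegreeTI
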