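import Cfsg.Agent.S0806
import Cfsg.Agent.Lib.Classical.Order
import Cfsg.Agent.Lib.PrimeDegreeTI.Exceptional
import Cfsg.Agent.Lib.PrimeDegreeTI.Reduction
import Cfsg.Agent.Lib.PrimeDegreeTI.Inversion
import Cfsg.Agent.Lib.PrimeDegreeTI.Group
import Cfsg.Agent.Lib.PrimeDegreeTI.ETwo

/-!
# Groups of prime degree with a unique character of that degree and a TI complement
-/

set_option autoImplicit false
set_option linter.style.haveILetI false
set_option linter.unusedSectionVars false

namespace CfsgLib.PrimeDegreeTI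

open MulAction

variable {α : Type*} [Fintype α] [DecidableEq α] {p : ℕ} [Fact p.Prime] {G : Subgroup (Equiv.Perm α)}

/-- Galois: a projective special linear group of odd field order and prime degree. -/
theorem galois_finish (hα : Fintype.card α = p) [IsPretransitive G α] (hp5 : 5 ≤ p) (F : Type) [Field F]
    [Fintype F] (hodd : Odd (Fintype.card F)) (φ : G ≃* Matrix.ProjectiveSpecialLinearGroup (Fin 2) F) :
    (p = 5 ∨ p = 7 ∨ p = 11) ∧ Fintype.card F = p := by
  classical
  have hp := (Fact.out : p.Prime)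
  obtain ⟨q, hq⟩ : ∃ q, q = Fintype.card F := ⟨_, rfl⟩
  obtain ⟨N, hN⟩ : ∃ N, N = Nat.card G := ⟨_, rfl⟩
  have hqc : Nat.card F = q := by rw [Nat.card_eq_fintype_card, hq]
  have h2N : 2 * N = q * (q ^ 2 - 1) := by
    have h := CfsgLib.Classical.card_PSL_two_mul (F := F)
    rw [CfsgLib.Classical.gcd_two_card_sub_one_of_odd (by rw [hqc, hq]; exact hodd), hqc] at h
    rw [← h, hN, Nat.card_congr φ.toEquiv]
  have hne : Nonempty α := Fintype.card_pos_iff.1 (by rw [hα]; exact hp.pos)
  obtain ⟨a⟩ := hne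
  have hidx : (stabilizer G a).index = p := by
    rw [index_stabilizer_of_transitive, Nat.card_eq_fintype_card, hα]
  have hpN : p ∣ N := by
    rw [hN, ← Subgroup.index_mul_card (stabilizer G a), hidx]; exact dvd_mul_right _ _
  have hNf : N ∣ p.factorial := by
    have := Subgroup.card_subgroup_dvd_card G
    rwa [Nat.card_perm, Nat.card_eq_fintype_card (α := α), hα, ← hN] at this
  rw [← hq]
  by_cases hlist : q ∈ ({2, 3, 5, 7, 9, 11} : Finset ℕ)
  · simp only [Finset.mem_insert, Finset.mem_singleton] at hlist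
    rcases hlist with h | h | h | h | h | h
    · exfalso
      obtain ⟨j, hj⟩ := hodd
      omega
    · exfalso
      rw [h] at h2N
      have : p ∣ 12 := hpN.trans ⟨1, by norm_num at h2N; omega⟩
      have := Nat.le_of_dvd (by norm_num) this
      interval_cases p <;> norm_num at *
    · rw [h] at h2N
      have h60 : p ∣ 60 := hpN.trans ⟨1, by norm_num at h2N; omega⟩
      have : p = 5 := by
        have := Nat.le_of_dvd (by norm_num) h60
        interval_cases p <;> norm_num at *
      exact ⟨Or.inl this, by omega⟩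
    · rw [h] at h2N
      have h60 : p ∣ 168 := hpN.trans ⟨1, by norm_num at h2N; omega⟩
      have : p = 7 := by
        have h1 : p ∣ 2 ^ 3 * (3 * 7) := by norm_num; exact h60
        rcases hp.dvd_mul.1 h1 with h2 | h2
        · have := (Nat.prime_dvd_prime_iff_eq hp Nat.prime_two).1 (hp.dvd_of_dvd_pow h2); omega
        rcases hp.dvd_mul.1 h2 with h3 | h3
        · have := Nat.le_of_dvd (by norm_num) h3; omega
        · exact (Nat.prime_dvd_prime_iff_eq hp (by norm_num)).1 h3
      exact ⟨Or.inr (Or.inl this), by omega⟩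
    · exfalso
      rw [h] at h2N
      have hN' : N = 360 := by norm_num at h2N; omega
      have h1 : p ∣ 2 ^ 3 * (3 ^ 2 * 5) := by norm_num; rwa [hN'] at hpN
      have : p = 5 := by
        rcases hp.dvd_mul.1 h1 with h2 | h2
        · have := (Nat.prime_dvd_prime_iff_eq hp Nat.prime_two).1 (hp.dvd_of_dvd_pow h2); omega
        rcases hp.dvd_mul.1 h2 with h3 | h3
        · have := (Nat.prime_dvd_prime_iff_eq hp Nat.prime_three).1 (hp.dvd_of_dvd_pow h3); omega
        · exact (Nat.prime_dvd_prime_iff_eq hp (by norm_num)).1 h3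
      rw [hN', this] at hNf
      norm_num [Nat.factorial] at hNf
    · rw [h] at h2N
      have hN' : N = 660 := by norm_num at h2N; omega
      have h1 : p ∣ 2 ^ 2 * (3 * (5 * 11)) := by norm_num; rwa [hN'] at hpN
      have : p = 11 := by
        rcases hp.dvd_mul.1 h1 with h2 | h2
        · have := (Nat.prime_dvd_prime_iff_eq hp Nat.prime_two).1 (hp.dvd_of_dvd_pow h2); omega
        rcases hp.dvd_mul.1 h2 with h3 | h3
        · have := (Nat.prime_dvd_prime_iff_eq hp Nat.prime_three).1 h3; omega
        rcases hp.dvd_mul.1 h3 with h4 | h4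
        · exfalso
          rw [hN', (Nat.prime_dvd_prime_iff_eq hp (by norm_num)).1 h4] at hNf
          norm_num [Nat.factorial] at hNf
        · exact (Nat.prime_dvd_prime_iff_eq hp (by norm_num)).1 h4
      exact ⟨Or.inr (Or.inr this), by omega⟩
  · exfalso
    have hge := (Cfsg.Agent.S0806.result (F := F) hq.symm hlist).1
      ((stabilizer G a).map φ.toMonoidHom) ?_
    swap
    · intro htop
      have h1 := congrArg Subgroup.index htop
      rw [Subgroup.index_map_of_bijective φ.bijective, hidx, Subgroup.index_top] at h1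
      exact hp.one_lt.ne h1.symm
    rw [Subgroup.index_map_of_bijective φ.bijective, hidx] at hge
    have hq1 : 1 < q := hq ▸ Fintype.one_lt_card
    have h1 : p ∣ q * ((q + 1) * (q - 1)) := by
      rw [show (q + 1) * (q - 1) = q ^ 2 - 1 by rw [← Nat.sq_sub_sq, one_pow], ← h2N]
      exact dvd_mul_of_dvd_right hpN 2
    rcases hp.dvd_mul.1 h1 with h2 | h2
    · have := Nat.le_of_dvd (by omega) h2; omega
    rcases hp.dvd_mul.1 h2 with h3 | h3
    · have := Nat.le_of_dvd (by omega) h3
      have hpq : p = q + 1 := by omega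
      obtain ⟨j, hj⟩ := hodd
      have h2p : 2 ∣ p := ⟨j + 1, by omega⟩
      have := (Nat.prime_dvd_prime_iff_eq Nat.prime_two hp).1 h2p
      omega
    · have := Nat.le_of_dvd (by omega) h3; omega

theorem main (hα : Fintype.card α = p) [IsPretransitive G α]
    (huniq : ∃! χ : Cfsg.IrrCharacter G, Cfsg.charDegree (χ : G → ℂ) = p)
    (P : Sylow p G) (E : Subgroup G)
    (hPE : (P : Subgroup G) ⊔ E = Subgroup.normalizer ((P : Subgroup G) : Set G))
    (hPE' : (P : Subgroup G) ⊓ E = ⊥)
    (hNE : Nat.card (Subgroup.normalizer (E : Set G)) = 2 * Nat.card E)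
    (hTI : ∀ g : G, g ∉ Subgroup.normalizer (E : Set G) → E ⊓ E.map (MulAut.conj g).toMonoidHom = ⊥) :
    (p = 5 ∨ p = 7 ∨ p = 11) ∧ ∃ (F : Type) (_ : Field F) (_ : Fintype F), Fintype.card F = p ∧
      Nonempty (G ≃* Matrix.ProjectiveSpecialLinearGroup (Fin 2) F) := by
  classical
  have hp := (Fact.out : p.Prime)
  obtain ⟨u, s, a₀, m, e, t, d⟩ := exists_data hα huniq P E hPE hPE' hNE
  haveI := d.simple
  have hcE : Nat.card E = e := by rw [← d.gen, Nat.card_zpowers, d.ord_s]
  have hns : ¬ Group.IsSolvable G := fun h => by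
    obtain ⟨x, y, hxy⟩ := d.noncomm
    exact hxy ((IsSimpleGroup.comm_iff_isSolvable.2 h) x y)
  rcases Nat.eq_or_lt_of_le d.two_le with he2 | he3
  · have hs2 : orderOf s = 2 := d.ord_s.trans he2.symm
    have hcent : Subgroup.normalizer (E : Set G) = Subgroup.centralizer ({s} : Set G) := by
      have hmem : ∀ x : G, x ∈ E ↔ x = 1 ∨ x = s := by
        intro x
        rw [← d.gen]
        refine ⟨fun hx => ?_, fun hx => ?_⟩
        · obtain ⟨i, rfl⟩ := (mem_powers_iff_mem_zpowers).2 hx
          show s ^ i = 1 ∨ s ^ i = s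
          rcases Nat.even_or_odd' i with ⟨j, rfl | rfl⟩
          · left; rw [pow_mul, ← orderOf_dvd_iff_pow_eq_one.1 hs2.dvd] ; simp [orderOf_dvd_iff_pow_eq_one.1 hs2.dvd]
          · right; rw [pow_add, pow_mul, orderOf_dvd_iff_pow_eq_one.1 hs2.dvd, one_pow, one_mul, pow_one]
        · rcases hx with rfl | rfl
          · exact one_mem _
          · exact Subgroup.mem_zpowers x
      ext g
      rw [Subgroup.mem_centralizer_singleton_iff, Subgroup.mem_normalizer_iff]
      constructor
      · intro h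
        rcases (hmem _).1 ((h s).1 ((hmem s).2 (Or.inr rfl))) with h1 | h1
        · exfalso
          rw [conj_eq_one_iff] at h1
          rw [h1, orderOf_one] at hs2
          omega
        · exact mul_inv_eq_iff_eq_mul.1 h1
      · intro h x
        have hgs : g * s * g⁻¹ = s := mul_inv_eq_iff_eq_mul.2 h
        rw [hmem, hmem, conj_eq_one_iff]
        refine or_congr Iff.rfl ⟨fun h1 => by rw [h1, hgs], fun h1 => ?_⟩
        exact (MulAut.conj g).injective (show MulAut.conj g x = MulAut.conj g s from h1.trans hgs.symm)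
    rw [hcent, hcE, ← he2] at hNE
    obtain ⟨F, iF, iF', hodd, ⟨φ⟩⟩ := psl_of_centralizer_four d.perfect d.noncomm hs2 hNE
    obtain ⟨h1, h2⟩ := galois_finish hα d.five_le F hodd φ
    exact ⟨h1, F, iF, iF', h2, ⟨φ⟩⟩
  · have hN2 : Nat.card (Subgroup.normalizer (Subgroup.zpowers s : Set G)) = 2 * e := by
      rw [d.gen, hNE, hcE]
    have hTI' : ∀ g : G, g ∉ Subgroup.normalizer (Subgroup.zpowers s : Set G) →
        ∀ x ∈ Subgroup.zpowers s, g * x * g⁻¹ ∈ Subgroup.zpowers s → x = 1 := by
      rw [d.gen]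
      intro g hg x hx hgx
      have h1 : g * x * g⁻¹ ∈ E ⊓ E.map (MulAut.conj g).toMonoidHom := ⟨hgx, x, hx, rfl⟩
      rwa [hTI g hg, Subgroup.mem_bot, conj_eq_one_iff] at h1
    have hinv := outer_inverts d.noncomm d.perfect d.ord_s hN2 hTI'
    obtain ⟨χ, hχ1, hχs⟩ := d.value
    have ht2 : 2 ≤ t := by
      rcases d.even_t with ⟨t', ht'⟩
      rcases Nat.eq_zero_or_pos t' with h0 | h0
      · have := d.card_eq
        simp only [ht', h0, add_zero, mul_zero, zero_add] at this
        exact absurd this.symm (ne_of_gt hp.one_lt)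
      · omega
    have hcfg : Cfg p u s a₀ m e t :=
      ⟨d.ord_u, d.bij, d.fix, d.conj_u, d.ord_s, d.ord_m, d.card_eq, he3, ht2, d.mem_normalizer⟩
    have hp7 : 7 ≤ p := by
      have := Nat.mul_le_mul (show 3 ≤ e from he3) ht2
      have := d.card_eq
      omega
    obtain ⟨φ⟩ := hcfg.psl_of_char hp7 (CfsgLib.Perm.not_sq_dvd hα)
      (fun k _ _ => CfsgLib.Perm.heart_irreducible hα hns)
      (fun ω hω => exists_exceptional χ hχ1 hp.ne_one s d.ord_s he3 hχs hN2 hinv hTI' hω)
    obtain ⟨h1, h2⟩ := galois_finish hα d.five_le (ZMod p)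
      (by rw [ZMod.card]; exact hp.odd_of_ne_two (by omega)) φ
    exact ⟨h1, ZMod p, inferInstance, inferInstance, h2, ⟨φ⟩⟩

end CfsgLib.PrimeDegreeTI
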