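import Cfsg.Agent.Lib.PrimeDegreeTI.Extension
import Cfsg.Agent.Lib.SmallDegree.Fitting

/-!
# A representation of degree at most three

If a representation `V` of degree `p + 1` in characteristic `p` has the trace `m ^ j + m ^ (-j)` on
`s ^ j` then `V`, or its dual, has a nontrivial quotient of dimension at most three.
-/

set_option autoImplicit false
set_option linter.style.haveILetI false
set_option linter.unusedSectionVars false

namespace CfsgLib.PrimeDegreeTI

open Finset MulAction Module

variable {G : Type*} [Group G] [Finite G] {α : Type*} [Fintype α] [DecidableEq α] [MulAction G α]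
  {p : ℕ} [Fact p.Prime] {u s : G} {a₀ : α} {m : ZMod p} {e t : ℕ}
  {k : Type*} [Field k] [CharP k p]
  {V : Type*} [AddCommGroup V] [Module k V] [FiniteDimensional k V]

/-- A natural number with a known residue. -/
theorem le_of_cast_eq {r n : ℕ} (hn : n < p) (h : (r : k) = n) : n ≤ r := by
  rw [CharP.natCast_eq_natCast k p] at h
  unfold Nat.ModEq at h
  rw [Nat.mod_eq_of_lt hn] at h
  rw [← h]
  exact Nat.mod_le _ _

theorem eq_of_cast_eq {r n : ℕ} (hn : n < p) (h : (r : k) = n) (hr : r < n + p) : r = n := by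
  rw [CharP.natCast_eq_natCast k p] at h
  unfold Nat.ModEq at h
  rw [Nat.mod_eq_of_lt hn] at h
  have := Nat.div_add_mod r p
  rcases Nat.eq_zero_or_pos (r / p) with h0 | h0
  · rw [h0, mul_zero, zero_add] at this; omega
  · have := Nat.le_mul_of_pos_right p h0
    omega

theorem exists_coord_rep {U : Type*} [AddCommGroup U] [Module k U] [FiniteDimensional k U]
    (σ : Representation k G U) (hle : finrank k U ≤ 3) (hne : ∃ g, σ g ≠ 1) :
    ∃ (n : ℕ) (σ : Representation k G (Fin n → k)), n ≤ 3 ∧ ∃ g, σ g ≠ 1 := by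
  let E := (Module.finBasis k U).equivFun
  refine ⟨finrank k U, (E.conjAlgEquiv k).toAlgHom.toMonoidHom.comp σ, hle, ?_⟩
  obtain ⟨g, hg⟩ := hne
  exact ⟨g, fun h1 => hg ((E.conjAlgEquiv k).injective (h1.trans (map_one _).symm))⟩

namespace Cfg

theorem sum_mult_pow (h : Cfg p u s a₀ m e t) (i : ℤ) :
    ∑ j ∈ range e, (mult k m ^ i) ^ j = if (e : ℤ) ∣ i then (e : k) else 0 := by
  classical
  split_ifs with hd <;> rw [← (h.mult_primitive (k := k)).zpow_eq_one_iff_dvd] at hd
  · simp [hd]
  · rw [geom_sum_eq hd, ← zpow_natCast, ← zpow_mul, mul_comm, zpow_mul, zpow_natCast, h.mult_pow,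
      one_zpow, sub_self, zero_div]

theorem neg_inv_e (h : Cfg p u s a₀ m e t) : (t : k) = -(e : k)⁻¹ := by
  have h1 : ((e * t + 1 : ℕ) : k) = 0 := by rw [h.card_eq, CharP.cast_eq_zero]
  push_cast at h1
  refine mul_left_cancel₀ (h.e_ne_zero (k := k)) ?_
  rw [mul_neg, mul_inv_cancel₀ h.e_ne_zero]
  linear_combination h1

/-- The traces of the permutation module. -/
theorem trace_perm (h : Cfg p u s a₀ m e t) {j : ℕ} (hj : ¬ e ∣ j) :
    LinearMap.trace k (α → k) (Cfsg.permRep k G α (s ^ j)) = 1 := by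
  rw [LinearMap.trace_eq_matrix_trace k (Pi.basisFun k α), Matrix.trace]
  simp only [Matrix.diag_apply, LinearMap.toMatrix_apply, Pi.basisFun_repr, Pi.basisFun_apply,
    CfsgLib.Perm.permRep_single]
  rw [Finset.sum_eq_single (h.pt 0)]
  · rw [h.spow_smul_pt, mul_zero, Pi.single_eq_same]
  · intro x _ hx
    refine Pi.single_eq_of_ne (fun hx' => ?_) 1
    obtain ⟨c, rfl⟩ := h.pt_surjective x
    exact hx (by rw [h.eq_pt_zero_of_spow hj hx'.symm])
  · intro h'; exact absurd (mem_univ _) h'

/-- The rank of a weight projection of the permutation module. -/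
theorem finrank_perm_wproj (h : Cfg p u s a₀ m e t) :
    finrank k (LinearMap.range (wproj (Cfsg.permRep k G α s) e (mult k m))) ≤ t := by
  classical
  have hT : (Cfsg.permRep k G α s) ^ e = 1 := by rw [← map_pow, h.spow_e, map_one]
  have hcast := finrank_wproj hT h.e_pos h.e_ne_zero (h.mult_pow (k := k))
  have hα : Fintype.card α = p := by
    rw [← Fintype.card_congr (Equiv.ofBijective _ h.bij), ZMod.card]
  have hterm : ∀ j ∈ range e, (mult k m)⁻¹ ^ j * LinearMap.trace k (α → k) (Cfsg.permRep k G α s ^ j) =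
      (mult k m ^ (-1 : ℤ)) ^ j - if j = 0 then 1 else 0 := by
    intro j hj
    rcases eq_or_ne j 0 with rfl | h0
    · simp [LinearMap.trace_one, hα]
    · rw [← map_pow, h.trace_perm (fun hd => absurd (Nat.le_of_dvd (Nat.pos_of_ne_zero h0) hd)
        (by simp only [Finset.mem_range] at hj; omega)), mul_one, if_neg h0, sub_zero, zpow_neg_one]
  have hne : ¬ (e : ℤ) ∣ -1 := by
    rw [Int.natCast_dvd]; simp only [Int.natAbs_neg, Int.natAbs_one, Nat.dvd_one]
    have := h.three_le; omega
  rw [Finset.sum_congr rfl hterm, Finset.sum_sub_distrib, h.sum_mult_pow, if_neg hne,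
    Finset.sum_ite_eq', if_pos (Finset.mem_range.2 h.e_pos), zero_sub, mul_neg, mul_one, ← h.neg_inv_e] at hcast
  have hle : finrank k (LinearMap.range (wproj (Cfsg.permRep k G α s) e (mult k m))) ≤ p := by
    refine (Submodule.finrank_le _).trans ?_
    rw [Module.finrank_pi, hα]
  have := h.t_lt
  exact (eq_of_cast_eq (p := p) (by omega) hcast (by
    rcases Nat.eq_zero_or_pos t with h0 | h0
    · have := h.two_le; omega
    · omega)).le

section Weights

variable (τ : Representation k G V)

theorem finrank_weights (h : Cfg p u s a₀ m e t) (hdim : finrank k V = p + 1)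
    (htr : ∀ j : ℕ, ¬ e ∣ j → LinearMap.trace k V (τ (s ^ j)) = mult k m ^ j + (mult k m ^ j)⁻¹) :
    t + 1 ≤ finrank k (LinearMap.range (wproj (τ s) e (mult k m))) ∧
      finrank k (LinearMap.range (wproj (τ s) e (1 : k))) ≤ t := by
  classical
  have hT : τ s ^ e = 1 := by rw [← map_pow, h.spow_e, map_one]
  have hζ0 : mult k m ≠ 0 := h.mult_ne_zero
  have hterm : ∀ i : ℤ, ∀ j ∈ range e, (mult k m ^ i)⁻¹ ^ j * LinearMap.trace k V (τ s ^ j) =
      (mult k m ^ (1 - i)) ^ j + (mult k m ^ (-1 - i)) ^ j - if j = 0 then 1 else 0 := by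
    intro i j hj
    have e1 : ∀ a : ℤ, (mult k m ^ i)⁻¹ ^ j * (mult k m ^ a) ^ j = (mult k m ^ (a - i)) ^ j := fun a => by
      rw [← mul_pow, ← zpow_neg, ← zpow_add₀ hζ0]
      congr 2
      ring
    rcases eq_or_ne j 0 with rfl | h0
    · simp only [pow_zero, one_mul, LinearMap.trace_one, hdim, if_true]
      push_cast
      rw [CharP.cast_eq_zero]
      ring
    · rw [← map_pow, htr j (fun hd => absurd (Nat.le_of_dvd (Nat.pos_of_ne_zero h0) hd)
        (by simp only [Finset.mem_range] at hj; omega)), if_neg h0, sub_zero, mul_add, ← e1 1, ← e1 (-1),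
        zpow_one, zpow_neg_one, inv_pow (mult k m)]
  have hcast : ∀ a : k, ∀ i : ℤ, mult k m ^ i = a →
      (finrank k (LinearMap.range (wproj (τ s) e a)) : k) =
        (e : k)⁻¹ * ((if (e : ℤ) ∣ 1 - i then (e : k) else 0) + (if (e : ℤ) ∣ -1 - i then (e : k) else 0) - 1) := by
    rintro a i rfl
    rw [finrank_wproj hT h.e_pos h.e_ne_zero (by
      rw [← zpow_natCast, ← zpow_mul, mul_comm, zpow_mul, zpow_natCast, h.mult_pow, one_zpow]),
      Finset.sum_congr rfl (hterm i), Finset.sum_sub_distrib, Finset.sum_add_distrib, h.sum_mult_pow,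
      h.sum_mult_pow, Finset.sum_ite_eq', if_pos (Finset.mem_range.2 h.e_pos)]
  have h3 := h.three_le
  have hn1 : ¬ (e : ℤ) ∣ 1 := by
    rw [Int.natCast_dvd]; simp only [Int.natAbs_one, Nat.dvd_one]; omega
  have hn1' : ¬ (e : ℤ) ∣ -1 := by rwa [dvd_neg]
  have hn2 : ¬ (e : ℤ) ∣ -2 := by
    rw [dvd_neg, Int.natCast_dvd]
    exact fun hd => absurd (Nat.le_of_dvd (by simp) hd) (by simp; omega)
  have c1 := hcast (mult k m) 1 (zpow_one _)
  rw [sub_self, if_pos (dvd_zero _), show (-1 - 1 : ℤ) = -2 by norm_num, if_neg hn2, add_zero, mul_sub,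
    inv_mul_cancel₀ h.e_ne_zero, mul_one, sub_eq_add_neg, ← h.neg_inv_e, add_comm, ← Nat.cast_one,
    ← Nat.cast_add] at c1
  have c0 := hcast 1 0 (zpow_zero _)
  rw [sub_zero, sub_zero, if_neg hn1, if_neg hn1', add_zero, zero_sub, mul_neg, mul_one, ← h.neg_inv_e] at c0
  have ht := h.t_lt
  have h2 := h.two_le
  refine ⟨le_of_cast_eq (p := p) (by omega) c1, (eq_of_cast_eq (p := p) (by omega) c0 ?_).le⟩
  have := Submodule.finrank_le (LinearMap.range (wproj (τ s) e (1 : k)))
  rw [hdim] at this
  omega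

/-- A weight vector killed by the norm and not in the image of `u - 1`. -/
theorem exists_weight_vector (h : Cfg p u s a₀ m e t) (hdim : finrank k V = p + 1)
    (htr : ∀ j : ℕ, ¬ e ∣ j → LinearMap.trace k V (τ (s ^ j)) = mult k m ^ j + (mult k m ^ j)⁻¹)
    (hN : ∀ y, τ s y = mult k m • y → ∑ i ∈ range p, (τ u ^ i) y = 0) :
    ∃ w : V, (∑ i ∈ range p, (τ u ^ i) w = 0) ∧ w ∉ LinearMap.range (τ u - 1) ∧ τ s w = mult k m • w := by
  classical
  have hP := (Fact.out : p.Prime)
  have hT : τ s ^ e = 1 := by rw [← map_pow, h.spow_e, map_one]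
  obtain ⟨hm, h1⟩ := h.finrank_weights τ hdim htr
  by_contra hcon
  push Not at hcon
  have hsub : ∀ y : V, wproj (τ s) e (mult k m) y ∈ LinearMap.range (τ u - 1) := fun y => by
    have hy := apply_wproj hT h.e_pos (h.mult_pow (k := k)) y
    by_contra hy'
    exact hcon _ (hN _ hy) hy' hy
  -- the homogeneous generator
  let ι := ZMod.castHom (dvd_refl p) k
  let U : ZMod p → Module.End k V := fun c => τ (u ^ c.val)
  let D : Module.End k V := ∑ c : ZMod p, ι c⁻¹ • U c
  have hD : τ s * D = mult k m • (D * τ s) := by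
    simp only [D, Finset.mul_sum, Finset.sum_mul, Finset.smul_sum, mul_smul_comm, smul_mul_assoc, smul_smul]
    refine Fintype.sum_equiv (Equiv.mulLeft₀ m h.m_ne_zero) _ _ fun c => ?_
    simp only [U, Equiv.mulLeft₀_apply, ← map_mul, h.s_upow, mult]
    rw [← map_mul]
    congr 2
    rw [mul_inv, ← mul_assoc, mul_inv_cancel₀ h.m_ne_zero, one_mul]
  have hU : ∀ c : ZMod p, U c - 1 = (τ u - 1) * ∑ i ∈ range c.val, τ u ^ i := fun c => by
    rw [mul_geom_sum, ← map_pow]
  let A : Module.End k V := ∑ c : ZMod p, ι c⁻¹ • ∑ i ∈ range c.val, τ u ^ i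
  have hsum0 : ∑ c : ZMod p, c⁻¹ = (0 : ZMod p) := by
    refine (Equiv.sum_comp (Equiv.inv (ZMod p)) (fun c => c)).trans ?_
    have := FiniteField.sum_pow_lt_card_sub_one (K := ZMod p) 1 (by
      rw [ZMod.card]; have := h.e_lt; have := h.three_le; omega)
    simpa using this
  have hDA : D = (τ u - 1) * A := by
    have e1 : (τ u - 1) * A = ∑ c : ZMod p, ι c⁻¹ • (U c - 1) := by
      simp only [A, Finset.mul_sum, mul_smul_comm, hU]
    rw [e1]
    simp only [smul_sub, Finset.sum_sub_distrib, ← Finset.sum_smul, ← map_sum, hsum0, map_zero, zero_smul,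
      sub_zero]
    rfl
  have hAcomm : Commute (τ u) A := by
    simp only [A, commute_iff_eq, Finset.mul_sum, Finset.sum_mul, mul_smul_comm, smul_mul_assoc]
    exact Finset.sum_congr rfl fun c _ => congrArg _ (Finset.sum_congr rfl fun i _ => by
      rw [← pow_succ', pow_succ])
  have hXp : (τ u - 1) ^ p = 0 := by
    rw [show p = p - 1 + 1 from (Nat.sub_add_cancel hP.one_le).symm, pow_succ,
      ← CfsgLib.SmallDegree.sum_pow_eq_sub_one_pow (k := k) (p := p) (τ u), geom_sum_mul,
      show τ u ^ p = 1 by rw [← map_pow, ← h.ord_u, pow_orderOf_eq_one, map_one], sub_self]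
  have hAu : IsUnit A := by
    obtain ⟨B, hB, hBc⟩ : ∃ B : Module.End k V, A + 1 = (τ u - 1) * B ∧ Commute (τ u - 1) B := by
      refine ⟨∑ c : ZMod p, ι c⁻¹ • ∑ i ∈ range c.val, ∑ l ∈ range i, τ u ^ l, ?_, ?_⟩
      · have e1 : (1 : Module.End k V) = -(∑ c : ZMod p, ι c⁻¹ • ∑ _i ∈ range c.val, (1 : Module.End k V)) := by
          have hc : ∀ c : ZMod p, ι c⁻¹ • ∑ _i ∈ range c.val, (1 : Module.End k V) = ι (c⁻¹ * c) • 1 := fun c => by
            rw [Finset.sum_const, Finset.card_range, ← Nat.cast_smul_eq_nsmul k, smul_smul, map_mul]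
            congr 2
            conv_rhs => rw [← ZMod.natCast_zmod_val c]
            rw [map_natCast]
          rw [Finset.sum_congr rfl (fun c _ => hc c), ← Finset.sum_smul, ← map_sum]
          have : ∑ c : ZMod p, c⁻¹ * c = (-1 : ZMod p) := by
            rw [← Finset.sum_erase (a := 0) _ (by simp), Finset.sum_congr rfl (g := fun _ => (1 : ZMod p))
              (fun c hc => inv_mul_cancel₀ (Finset.ne_of_mem_erase hc)), Finset.sum_const,
              Finset.card_erase_of_mem (mem_univ _), Finset.card_univ, ZMod.card, nsmul_eq_mul, mul_one,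
              Nat.cast_sub hP.one_le, ZMod.natCast_self, zero_sub, Nat.cast_one]
          rw [this, map_neg, map_one, neg_smul, neg_neg, one_smul]
        refine (congrArg (A + ·) e1).trans ?_
        simp only [A, ← sub_eq_add_neg, ← Finset.sum_sub_distrib, ← smul_sub, Finset.mul_sum, mul_smul_comm]
        exact Finset.sum_congr rfl fun c _ => congrArg _ (Finset.sum_congr rfl fun i _ => by
          rw [← mul_geom_sum, Finset.mul_sum])
      · refine Commute.sum_right _ _ _ fun c _ => Commute.smul_right (Commute.sum_right _ _ _ fun i _ =>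
          Commute.sum_right _ _ _ fun l _ => ?_) _
        exact ((Commute.refl (τ u)).pow_right l).sub_left (Commute.one_left _)
    have hnil : IsNilpotent (A + 1) := ⟨p, by rw [hB, hBc.mul_pow, hXp, zero_mul]⟩
    have := hnil.isUnit_sub_one
    rwa [add_sub_cancel_right] at this
  obtain ⟨A', hA'⟩ := hAu
  -- the image is too small
  have hle : LinearMap.range (wproj (τ s) e (mult k m)) ≤
      (LinearMap.range (wproj (τ s) e (1 : k))).map D := by
    rintro _ ⟨y, rfl⟩
    obtain ⟨z, hz⟩ := hsub y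
    have hz' : D ((↑A'⁻¹ : Module.End k V) z) = wproj (τ s) e (mult k m) y := by
      rw [hDA, Module.End.mul_apply, ← Module.End.mul_apply A, ← hA', A'.mul_inv, Module.End.one_apply, hz]
    have hfix := (wproj_isProj hT h.e_pos h.e_ne_zero (h.mult_pow (k := k))).map_id
      (wproj (τ s) e (mult k m) y) ⟨y, rfl⟩
    refine ⟨wproj (τ s) e 1 ((↑A'⁻¹ : Module.End k V) z), ⟨_, rfl⟩, ?_⟩
    have := LinearMap.congr_fun (wproj_mul_twist (e := e) (a := mult k m) hD) ((↑A'⁻¹ : Module.End k V) z)
    rw [Module.End.mul_apply, Module.End.mul_apply, hz', hfix, mul_inv_cancel₀ h.mult_ne_zero] at this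
    exact this.symm
  have := (Submodule.finrank_mono hle).trans (Submodule.finrank_map_le _ _)
  omega

/-- A nontrivial quotient of dimension at most three. -/
theorem exists_small_quotient (h : Cfg p u s a₀ m e t) (hdim : finrank k V = p + 1)
    (htr : ∀ j : ℕ, ¬ e ∣ j → LinearMap.trace k V (τ (s ^ j)) = mult k m ^ j + (mult k m ^ j)⁻¹)
    (hheart : ∀ W : Subrepresentation (Cfsg.permRep k G α),
      (Cfsg.permConstants k G α).toSubmodule ≤ W.toSubmodule →
      W.toSubmodule ≤ (Cfsg.permSumZero k G α).toSubmodule →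
      W = Cfsg.permConstants k G α ∨ W = Cfsg.permSumZero k G α)
    (hN : ∀ y, τ s y = mult k m • y → ∑ i ∈ range p, (τ u ^ i) y = 0) :
    ∃ (Q : Submodule k V) (σ : Representation k G (V ⧸ Q)), finrank k (V ⧸ Q) ≤ 3 ∧ ∃ g, σ g ≠ 1 := by
  classical
  obtain ⟨w, hw0, hw, hsw⟩ := h.exists_weight_vector τ hdim htr hN
  obtain ⟨F, hF, hFy⟩ := h.exists_hom τ hw0 hw hsw
  set R := LinearMap.range (τ u - 1) with hR
  set y₀ : α → k := Pi.single (h.pt 1) 1 - Pi.single (h.pt 0) 1 with hy₀
  set C := (Cfsg.permConstants k G α).toSubmodule with hC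
  set M₀ := (Cfsg.permSumZero k G α).toSubmodule with hM₀
  have hmem : ∀ f : α → k, f ∈ M₀ ↔ ∑ x, f x = 0 := fun f => CfsgLib.Perm.mem_permSumZero
  have hy₀M : y₀ ∈ M₀ := (hmem _).2 (by simp [hy₀, Finset.sum_sub_distrib])
  have hα : Fintype.card α = p := by
    rw [← Fintype.card_congr (Equiv.ofBijective _ h.bij), ZMod.card]
  have hCM : C ≤ M₀ := fun f hf => by
    obtain ⟨c, hc⟩ := CfsgLib.Perm.mem_permConstants.1 hf
    rw [hmem]
    simp [hc, hα]
  let W : Subrepresentation (Cfsg.permRep k G α) :=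
    ⟨(M₀ ⊓ LinearMap.ker F) ⊔ C, fun g f hf => by
      obtain ⟨a, ⟨haM, haF⟩, b, hb, rfl⟩ := Submodule.mem_sup.1 hf
      rw [map_add]
      refine Submodule.add_mem_sup ⟨?_, ?_⟩ ((Cfsg.permConstants k G α).apply_mem_toSubmodule g hb)
      · exact (Cfsg.permSumZero k G α).apply_mem_toSubmodule g haM
      · have haF' : F a = 0 := haF
        show F _ = 0
        rw [hF g a ((hmem a).1 haM), haF', map_zero]⟩
  have hKC : M₀ ⊓ LinearMap.ker F ≤ C := by
    rcases hheart W le_sup_right (sup_le inf_le_left hCM) with h1 | h1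
    · have h2 : (M₀ ⊓ LinearMap.ker F) ⊔ C = C := congrArg Subrepresentation.toSubmodule h1
      exact le_sup_left.trans h2.le
    · exfalso
      have h2 : (M₀ ⊓ LinearMap.ker F) ⊔ C = M₀ := congrArg Subrepresentation.toSubmodule h1
      have hy : y₀ ∈ (M₀ ⊓ LinearMap.ker F) ⊔ C := h2.symm ▸ hy₀M
      obtain ⟨a, ⟨-, haF⟩, b, hb, hab⟩ := Submodule.mem_sup.1 hy
      obtain ⟨c, hc⟩ := CfsgLib.Perm.mem_permConstants.1 hb
      have hFb : F y₀ = F b := by
        rw [← hab, map_add, show F a = 0 from haF, zero_add]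
      have hfix : τ s (F b) = F b := by
        have hbs : ∑ x, b x = 0 := (hmem b).1 (hCM hb)
        rw [← hF s b hbs]
        congr 1
        funext x
        rw [CfsgLib.Perm.permRep_apply, hc, hc]
      rw [hFb] at hFy
      have h3 := h.spow_stable τ 1 hFy
      rw [pow_one, map_sub, hfix, map_smul, hsw] at h3
      have h4 := R.sub_mem h3 hFy
      rw [sub_sub_sub_cancel_left, smul_smul, ← sub_smul] at h4
      refine hw ((R.smul_mem_iff ?_).1 h4)
      have : (e : k) - (e : k) * mult k m = (e : k) * (1 - mult k m) := by ring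
      rw [this]
      refine mul_ne_zero h.e_ne_zero (sub_ne_zero.2 fun h1' => ?_)
      exact (h.mult_primitive (k := k)).ne_one (by have := h.three_le; omega) h1'.symm
  -- the image
  let I : Submodule k V := M₀.map F
  have hIinv : ∀ g, ∀ v ∈ I, τ g v ∈ I := by
    rintro g _ ⟨f, hf, rfl⟩
    exact ⟨_, (Cfsg.permSumZero k G α).apply_mem_toSubmodule g hf, hF g f ((hmem f).1 hf)⟩
  let σ : Representation k G (V ⧸ I) :=
    { toFun := fun g => I.mapQ I (τ g) (fun v hv => hIinv g v hv)
      map_one' := by ext v; simp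
      map_mul' := fun g g' => by ext v; simp }
  refine ⟨I, σ, ?_, ?_⟩
  · have hC1 : finrank k C ≤ 1 := by
      rw [hC]
      refine (finrank_span_le_card (R := k) ({fun _ : α => (1 : k)} : Set (α → k))).trans ?_ |>.trans' ?_
      · simp
      · refine Submodule.finrank_mono fun f hf => ?_
        obtain ⟨c, hc⟩ := CfsgLib.Perm.mem_permConstants.1 hf
        exact Submodule.mem_span_singleton.2 ⟨c, by ext x; simp [hc]⟩
    have hM : p ≤ finrank k M₀ + 1 := by
      let S : (α → k) →ₗ[k] k := ∑ x : α, LinearMap.proj x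
      have h1 := LinearMap.finrank_range_add_finrank_ker S
      rw [Module.finrank_pi, hα] at h1
      have h2 : LinearMap.ker S = M₀ := by
        ext f
        rw [LinearMap.mem_ker, hmem]
        simp [S, LinearMap.sum_apply]
      have h3 := Submodule.finrank_le (LinearMap.range S)
      rw [Module.finrank_self] at h3
      rw [h2] at h1
      omega
    have h1 := LinearMap.finrank_range_add_finrank_ker (F.comp M₀.subtype)
    have h2 : LinearMap.range (F.comp M₀.subtype) = I := by
      rw [LinearMap.range_comp, Submodule.range_subtype]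
    have h3 : finrank k (LinearMap.ker (F.comp M₀.subtype)) ≤ finrank k C := by
      rw [← Submodule.finrank_map_subtype_eq]
      refine Submodule.finrank_mono fun f hf => ?_
      obtain ⟨⟨g, hg⟩, hgk, rfl⟩ := hf
      exact hKC ⟨hg, hgk⟩
    rw [h2] at h1
    have h4 := Submodule.finrank_quotient_add_finrank I
    omega
  · by_contra hall
    push Not at hall
    have hT : τ s ^ e = 1 := by rw [← map_pow, h.spow_e, map_one]
    have hsub : LinearMap.range (wproj (τ s) e (mult k m)) ≤
        (LinearMap.range (wproj (Cfsg.permRep k G α s) e (mult k m))).map F := by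
      rintro _ ⟨x, rfl⟩
      set y := wproj (τ s) e (mult k m) x with hy
      have hyT : τ s y = mult k m • y := apply_wproj hT h.e_pos (h.mult_pow (k := k)) x
      have hyI : y ∈ I := by
        have h1 := LinearMap.congr_fun (hall s) (Submodule.Quotient.mk y)
        change Submodule.Quotient.mk (τ s y) = Submodule.Quotient.mk y at h1
        rw [hyT, Submodule.Quotient.mk_smul] at h1
        have h2 : (mult k m - 1) • (Submodule.Quotient.mk y : V ⧸ I) = 0 := by
          rw [sub_smul, one_smul, h1, sub_self]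
        refine (Submodule.Quotient.mk_eq_zero I).1 ((smul_eq_zero.1 h2).resolve_left ?_)
        exact sub_ne_zero.2 ((h.mult_primitive (k := k)).ne_one (by have := h.three_le; omega))
      obtain ⟨f, hf, hfy⟩ := hyI
      refine ⟨wproj (Cfsg.permRep k G α s) e (mult k m) f, ⟨f, rfl⟩, ?_⟩
      rw [map_wproj (T := τ s) F (fun g hg => (Cfsg.permSumZero k G α).apply_mem_toSubmodule s hg)
        (fun g hg => hF s g ((hmem g).1 hg)) hf, hfy]
      exact wproj_apply_of_eq h.e_ne_zero h.mult_ne_zero hyT
    have h1 := (Submodule.finrank_mono hsub).trans (Submodule.finrank_map_le _ _)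
    have h2 := h.finrank_perm_wproj (k := k)
    have h3 := (h.finrank_weights τ hdim htr).1
    omega

/-- `V` or its dual has a nontrivial quotient of dimension at most three. -/
theorem exists_small_rep (h : Cfg p u s a₀ m e t) (hdim : finrank k V = p + 1)
    (htr : ∀ j : ℕ, ¬ e ∣ j → LinearMap.trace k V (τ (s ^ j)) = mult k m ^ j + (mult k m ^ j)⁻¹)
    (hheart : ∀ W : Subrepresentation (Cfsg.permRep k G α),
      (Cfsg.permConstants k G α).toSubmodule ≤ W.toSubmodule →
      W.toSubmodule ≤ (Cfsg.permSumZero k G α).toSubmodule →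
      W = Cfsg.permConstants k G α ∨ W = Cfsg.permSumZero k G α) :
    ∃ (n : ℕ) (σ : Representation k G (Fin n → k)), n ≤ 3 ∧ ∃ g, σ g ≠ 1 := by
  classical
  by_cases hN : ∀ y, τ s y = mult k m • y → ∑ i ∈ range p, (τ u ^ i) y = 0
  · obtain ⟨Q, σ, h1, h2⟩ := h.exists_small_quotient τ hdim htr hheart hN
    exact exists_coord_rep σ h1 h2
  push Not at hN
  obtain ⟨y, hy, hy0⟩ := hN
  have hP := (Fact.out : p.Prime)
  let N : Module.End k V := ∑ i ∈ range p, τ u ^ i
  have hNX : N = (τ u - 1) ^ (p - 1) := CfsgLib.SmallDegree.sum_pow_eq_sub_one_pow (k := k) (p := p) _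
  have hXN : (τ u - 1) * N = 0 := by
    simp only [N]
    rw [mul_geom_sum, show τ u ^ p = 1 by rw [← map_pow, ← h.ord_u, pow_orderOf_eq_one, map_one], sub_self]
  -- the rank of the norm
  let r : ℕ → ℕ := fun i => finrank k (LinearMap.range ((τ u - 1) ^ i))
  have hstep : ∀ i, i ≤ p - 1 → r (i + 1) + r (p - 1) ≤ r i := by
    intro i hi
    let Ri := LinearMap.range ((τ u - 1) ^ i)
    have h1 := LinearMap.finrank_range_add_finrank_ker ((τ u - 1).comp Ri.subtype)
    have h2 : LinearMap.range ((τ u - 1).comp Ri.subtype) = LinearMap.range ((τ u - 1) ^ (i + 1)) := by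
      rw [LinearMap.range_comp, Submodule.range_subtype, pow_succ', Module.End.mul_eq_comp, LinearMap.range_comp]
    have h3 : LinearMap.range ((τ u - 1) ^ (p - 1)) ≤
        (LinearMap.ker ((τ u - 1).comp Ri.subtype)).map Ri.subtype := by
      rintro _ ⟨z, rfl⟩
      have hzR : ((τ u - 1) ^ (p - 1) : Module.End k V) z ∈ Ri := by
        refine ⟨((τ u - 1) ^ (p - 1 - i) : Module.End k V) z, ?_⟩
        rw [← Module.End.mul_apply, ← pow_add, Nat.add_sub_cancel' hi]
      refine ⟨⟨_, hzR⟩, ?_, rfl⟩
      show (τ u - 1) _ = 0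
      exact LinearMap.congr_fun (hNX ▸ hXN) z
    have h4 := (Submodule.finrank_mono h3).trans (Submodule.finrank_map_le _ _)
    rw [h2] at h1
    have h5 : finrank k Ri = r i := rfl
    simp only [r] at h5 ⊢
    omega
  have hiter : ∀ i, i ≤ p → r i + i * r (p - 1) ≤ r 0 := by
    intro i hi
    induction i with
    | zero => simp
    | succ i ih =>
      have := hstep i (by omega)
      have := ih (by omega)
      rw [Nat.succ_mul]
      omega
  have hrN : r (p - 1) ≤ 1 := by
    have h1 := hiter p le_rfl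
    have h2 : r 0 = p + 1 := by
      simp only [r]
      rw [pow_zero, Module.End.one_eq_id, LinearMap.range_id, finrank_top, hdim]
    by_contra h3
    have := Nat.mul_le_mul_left p (show 2 ≤ r (p - 1) by omega)
    have := hP.two_le
    omega
  have hNs : τ s * N = N * τ s := by
    simp only [N, Finset.mul_sum, Finset.sum_mul, ← map_pow]
    refine Finset.sum_bij (fun i _ => (m * (i : ZMod p)).val) (fun i _ => Finset.mem_range.2 (ZMod.val_lt _)) ?_ ?_ ?_
    · intro a ha b hb hab
      have h1 := mul_left_cancel₀ h.m_ne_zero (ZMod.val_injective p hab)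
      have := congrArg ZMod.val h1
      rwa [ZMod.val_natCast, ZMod.val_natCast, Nat.mod_eq_of_lt (Finset.mem_range.1 ha),
        Nat.mod_eq_of_lt (Finset.mem_range.1 hb)] at this
    · intro b hb
      refine ⟨(m⁻¹ * (b : ZMod p)).val, Finset.mem_range.2 (ZMod.val_lt _), ?_⟩
      rw [ZMod.natCast_zmod_val, ← mul_assoc, mul_inv_cancel₀ h.m_ne_zero, one_mul, ZMod.val_natCast,
        Nat.mod_eq_of_lt (Finset.mem_range.1 hb)]
    · intro i hi
      rw [← map_mul, ← map_mul, ← h.s_upow, ← h.upow]
  have hv0 : τ s (N y) = mult k m • N y := by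
    rw [← Module.End.mul_apply, hNs, Module.End.mul_apply, hy, map_smul]
  have hNy : N y ≠ 0 := by simpa [N, LinearMap.sum_apply] using hy0
  have hspan : ∀ x, ∃ c : k, c • N y = N x := by
    intro x
    have h1 : finrank k (LinearMap.range N) ≤ 1 := by rw [hNX]; exact hrN
    have h2 : LinearMap.range N = k ∙ N y := (Submodule.eq_of_le_of_finrank_le
      ((Submodule.span_singleton_le_iff_mem _ _).2 (LinearMap.mem_range_self N y)) (by rw [finrank_span_singleton hNy]; exact h1)).symm
    have h3 : N x ∈ LinearMap.range N := ⟨x, rfl⟩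
    rw [h2] at h3
    exact Submodule.mem_span_singleton.1 h3
  have htr' : ∀ j : ℕ, ¬ e ∣ j → LinearMap.trace k (Module.Dual k V) (τ.dual (s ^ j)) =
      mult k m ^ j + (mult k m ^ j)⁻¹ := by
    intro j hj
    rw [Representation.dual_apply, LinearMap.trace_transpose']
    have h1 : (s ^ j)⁻¹ = s ^ (e * j - j) := by
      refine inv_eq_of_mul_eq_one_right ?_
      rw [← pow_add, Nat.add_sub_cancel' (Nat.le_mul_of_pos_left j h.e_pos), pow_mul, h.spow_e, one_pow]
    have h2 : ¬ e ∣ e * j - j := fun hd => hj ((Nat.dvd_sub_iff_right (Nat.le_mul_of_pos_left j h.e_pos)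
      (dvd_mul_right e j)).1 hd)
    have h3 : mult k m ^ (e * j - j) = (mult k m ^ j)⁻¹ := by
      refine eq_inv_of_mul_eq_one_left ?_
      rw [← pow_add, Nat.sub_add_cancel (Nat.le_mul_of_pos_left j h.e_pos), pow_mul, h.mult_pow, one_pow]
    rw [h1, htr _ h2, h3, inv_inv, add_comm]
  obtain ⟨Q, σ, h1, h2⟩ := h.exists_small_quotient τ.dual ((Subspace.dual_finrank_eq).trans hdim) htr' hheart
    (fun φ hφ => by
      have hdual : ∀ (g : G) (ψ : Module.Dual k V) (x : V), τ.dual g ψ x = ψ (τ g⁻¹ x) := fun g ψ x => rfl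
      have hv : φ (N y) = 0 := by
        have h1 := LinearMap.congr_fun hφ (N y)
        rw [hdual, LinearMap.smul_apply, smul_eq_mul] at h1
        have h2 : τ s⁻¹ (N y) = (mult k m)⁻¹ • N y := by
          rw [eq_inv_smul_iff₀ h.mult_ne_zero, ← map_smul, ← hv0, ← Module.End.mul_apply, ← map_mul,
            inv_mul_cancel, map_one, Module.End.one_apply]
        rw [h2, map_smul, smul_eq_mul] at h1
        have h4 : (mult k m ^ 2 - 1) * φ (N y) = 0 := by
          have := congrArg (fun z => mult k m * z) h1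
          simp only [← mul_assoc, mul_inv_cancel₀ (h.mult_ne_zero (k := k)), one_mul] at this
          linear_combination -this
        refine (mul_eq_zero.1 h4).resolve_left (sub_ne_zero.2 ?_)
        exact (h.mult_primitive (k := k)).pow_ne_one_of_pos_of_lt (by norm_num) (by have := h.three_le; omega)
      ext x
      have hsum : ∀ i : ℕ, ((τ.dual u) ^ i) φ x = φ (τ (u ^ i)⁻¹ x) := fun i => by rw [← map_pow, hdual]
      rw [LinearMap.sum_apply, LinearMap.zero_apply]
      simp only [hsum, ← map_sum]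
      have h5 : ∑ i ∈ range p, τ (u ^ i)⁻¹ x = N x := by
        simp only [N, LinearMap.sum_apply, ← map_pow]
        refine Finset.sum_bij (fun i _ => (-(i : ZMod p)).val) (fun i _ => Finset.mem_range.2 (ZMod.val_lt _)) ?_ ?_ ?_
        · intro a ha b hb hab
          have h1 := neg_injective (ZMod.val_injective p hab)
          have := congrArg ZMod.val h1
          rwa [ZMod.val_natCast, ZMod.val_natCast, Nat.mod_eq_of_lt (Finset.mem_range.1 ha),
            Nat.mod_eq_of_lt (Finset.mem_range.1 hb)] at this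
        · intro b hb
          refine ⟨(-(b : ZMod p)).val, Finset.mem_range.2 (ZMod.val_lt _), ?_⟩
          rw [ZMod.natCast_zmod_val, neg_neg, ZMod.val_natCast, Nat.mod_eq_of_lt (Finset.mem_range.1 hb)]
        · intro i _
          refine congrArg (fun g => τ g x) (inv_eq_of_mul_eq_one_right ?_)
          rw [h.upow i, ← h.upow_add, add_neg_cancel, ZMod.val_zero, pow_zero]
      obtain ⟨c, hc⟩ := hspan x
      rw [h5, ← hc, map_smul, hv, smul_zero])
  exact exists_coord_rep σ h1 h2

end Weights

end Cfg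

end CfsgLib.PrimeDegreeTI
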